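import Mathlib

/-!
# Tensor products and filtered systems of algebras
-/

universe u v

open CategoryTheory TensorProduct

set_option linter.style.haveILetI false

namespace Groth.Agent.ModDesc

variable {A : Type u} [CommRing A] {J : Type v} [Category.{v} J] [IsFiltered J]
  {C : J → Type u} [∀ j, CommRing (C j)] [∀ j, Algebra A (C j)] {B : Type u} [CommRing B] [Algebra A B]
  (t : ∀ {i j : J}, (i ⟶ j) → (C i →ₐ[A] C j)) (π : ∀ j, C j →ₐ[A] B)

variable (htt : ∀ {i j k : J} (f : i ⟶ j) (g : j ⟶ k) (x : C i), t (f ≫ g) x = t g (t f x))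
  (hπ : ∀ {i j : J} (f : i ⟶ j) (x : C i), π j (t f x) = π i x)

include hπ in
/-- Elements of `B ⊗ K` come from some stage, which may be taken beyond a given one. -/
theorem exists_stage_lTensor (hsurj : ∀ b : B, ∃ j x, π j x = b) (K : Type u) [AddCommGroup K] [Module A K]
    (i : J) (u : B ⊗[A] K) :
    ∃ (k : J) (_ : i ⟶ k) (y : C k ⊗[A] K), (π k).toLinearMap.rTensor K y = u := by
  induction u using TensorProduct.induction_on with
  | zero => exact ⟨i, 𝟙 i, 0, map_zero _⟩
  | tmul b x =>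
    obtain ⟨j, c, rfl⟩ := hsurj b
    exact ⟨IsFiltered.max i j, IsFiltered.leftToMax i j, t (IsFiltered.rightToMax i j) c ⊗ₜ x, by simp [hπ]⟩
  | add a b ha hb =>
    obtain ⟨k₁, f₁, y₁, rfl⟩ := ha
    obtain ⟨k₂, f₂, y₂, rfl⟩ := hb
    refine ⟨IsFiltered.max k₁ k₂, f₁ ≫ IsFiltered.leftToMax k₁ k₂,
      (t (IsFiltered.leftToMax k₁ k₂)).toLinearMap.rTensor K y₁ +
        (t (IsFiltered.rightToMax k₁ k₂)).toLinearMap.rTensor K y₂, ?_⟩
    rw [map_add, ← LinearMap.comp_apply, ← LinearMap.rTensor_comp, ← LinearMap.comp_apply, ← LinearMap.rTensor_comp]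
    congr 3 <;> exact LinearMap.ext fun x => hπ _ x

include htt in
/-- An element of `C i ⊗ (free module)` killed in `B` is killed at some stage. -/
theorem exists_eq_zero_finsupp (hinj : ∀ (i : J) (x : C i), π i x = 0 → ∃ (j : J) (f : i ⟶ j), t f x = 0)
    {σ : Type u} (i : J) (w : C i ⊗[A] (σ →₀ A)) (hw : (π i).toLinearMap.rTensor (σ →₀ A) w = 0) :
    ∃ (j : J) (f : i ⟶ j), (t f).toLinearMap.rTensor (σ →₀ A) w = 0 := by
  classical
  let e : C i ⊗[A] (σ →₀ A) ≃ₗ[A] σ →₀ C i := TensorProduct.finsuppScalarRight A A (C i) σ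
  have hnat : ∀ {D : Type u} [CommRing D] [Algebra A D] (φ : C i →ₐ[A] D) (w : C i ⊗[A] (σ →₀ A)) (s : σ),
      TensorProduct.finsuppScalarRight A A D σ (φ.toLinearMap.rTensor _ w) s =
        φ (TensorProduct.finsuppScalarRight A A (C i) σ w s) := by
    intro D _ _ φ w s
    induction w using TensorProduct.induction_on with
    | zero => simp
    | tmul c p => simp [TensorProduct.finsuppScalarRight_apply_tmul_apply]
    | add a b ha hb => simp only [map_add, Finsupp.add_apply, ha, hb]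
  have h0 : ∀ s, π i (e w s) = 0 := fun s => by
    rw [← hnat (π i) w s, hw, map_zero]; rfl
  have key : ∀ F : Finset σ, ∃ (j : J) (f : i ⟶ j), ∀ s ∈ F, t f (e w s) = 0 := by
    intro F
    induction F using Finset.induction_on with
    | empty => exact ⟨i, 𝟙 i, by simp⟩
    | insert s F _ ih =>
      obtain ⟨j, f, hf⟩ := ih
      obtain ⟨k, g, hg⟩ := hinj i _ (h0 s)
      obtain ⟨l, a, b, hab⟩ := IsFiltered.span f g
      refine ⟨l, f ≫ a, fun s' hs' => ?_⟩
      rcases Finset.mem_insert.1 hs' with rfl | hs'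
      · rw [hab, htt, hg, map_zero]
      · rw [htt, hf s' hs', map_zero]
  obtain ⟨j, f, hf⟩ := key (e w).support
  refine ⟨j, f, (TensorProduct.finsuppScalarRight A A (C j) σ).injective (Finsupp.ext fun s => ?_)⟩
  rw [hnat, map_zero]
  by_cases hs : s ∈ (e w).support
  · exact hf s hs
  · rw [show (TensorProduct.finsuppScalarRight A A (C i) σ w) s = 0 from Finsupp.notMem_support_iff.1 hs, map_zero]; rfl

include htt hπ in
/-- An element of `C i ⊗ N` killed in `B ⊗ N` is killed at some stage. -/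
theorem exists_rTensor_eq_zero (hsurj : ∀ b : B, ∃ j x, π j x = b)
    (hinj : ∀ (i : J) (x : C i), π i x = 0 → ∃ (j : J) (f : i ⟶ j), t f x = 0)
    (N : Type u) [AddCommGroup N] [Module A N] (i : J) (z : C i ⊗[A] N)
    (hz : (π i).toLinearMap.rTensor N z = 0) :
    ∃ (j : J) (f : i ⟶ j), (t f).toLinearMap.rTensor N z = 0 := by
  let p : (N →₀ A) →ₗ[A] N := Finsupp.linearCombination A id
  have hp : Function.Surjective p := fun n => ⟨Finsupp.single n 1, by simp [p]⟩
  have comm : ∀ {D E : Type u} [CommRing D] [CommRing E] [Algebra A D] [Algebra A E] (φ : D →ₐ[A] E)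
      {P Q : Type u} [AddCommMonoid P] [Module A P] [AddCommMonoid Q] [Module A Q] (l : P →ₗ[A] Q) (x : D ⊗[A] P),
      φ.toLinearMap.rTensor Q (l.lTensor D x) = l.lTensor E (φ.toLinearMap.rTensor P x) := by
    intro D E _ _ _ _ φ P Q _ _ _ _ l x
    rw [← LinearMap.comp_apply, LinearMap.rTensor_comp_lTensor, ← LinearMap.lTensor_comp_rTensor, LinearMap.comp_apply]
  obtain ⟨w, rfl⟩ := LinearMap.lTensor_surjective (C i) hp z
  rw [comm] at hz
  obtain ⟨v, hv⟩ := ((lTensor_exact (R := A) (M := ↥(LinearMap.ker p)) (N := N →₀ A) (P := N) B (f := (LinearMap.ker p).subtype) (g := p)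
    (LinearMap.exact_subtype_ker_map p) hp) _).1 hz
  obtain ⟨k, f, y, rfl⟩ := exists_stage_lTensor t π hπ hsurj (LinearMap.ker p) i v
  let d := (t f).toLinearMap.rTensor (N →₀ A) w - (LinearMap.ker p).subtype.lTensor (C k) y
  have hd : (π k).toLinearMap.rTensor (N →₀ A) d = 0 := by
    rw [map_sub, comm, hv, ← LinearMap.comp_apply, ← LinearMap.rTensor_comp]
    have : (π k).toLinearMap ∘ₗ (t f).toLinearMap = (π i).toLinearMap := LinearMap.ext fun x => hπ f x
    rw [this, sub_self]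
  obtain ⟨l, g, hg⟩ := exists_eq_zero_finsupp t π htt hinj k d hd
  refine ⟨l, f ≫ g, ?_⟩
  rw [map_sub, sub_eq_zero, comm, ← LinearMap.comp_apply, ← LinearMap.rTensor_comp] at hg
  have h2 : (t g).toLinearMap ∘ₗ (t f).toLinearMap = (t (f ≫ g)).toLinearMap :=
    LinearMap.ext fun x => (htt f g x).symm
  rw [h2] at hg
  rw [comm, hg, ← LinearMap.comp_apply, ← LinearMap.lTensor_comp, LinearMap.comp_ker_subtype]
  simp

end Groth.Agent.ModDesc
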