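import Mathlib
import Groth.Agent.QC.OmegaAffineSect
import Groth.Agent.QC.FiniteType
import Groth.Agent.QC.Pullback

/-!
# Sections of a pullback over affine opens
-/

universe u

open CategoryTheory CategoryTheory.Limits AlgebraicGeometry TopologicalSpace Opposite TensorProduct

set_option backward.isDefEq.respectTransparency false
set_option linter.style.haveILetI false

noncomputable section

namespace Groth.Agent.ModDesc

open Groth.Agent.QC

variable {X Y : Scheme.{u}}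

/-- Pulling a section back to an open inside the preimage. -/
def pullSectLE (q : X ⟶ Y) (H : Y.Modules) (U : Y.Opens) (V : X.Opens) (e : V ≤ q ⁻¹ᵁ U) :
    Γ(H, U) →+ Γ((Scheme.Modules.pullback q).obj H, V) :=
  (res ((Scheme.Modules.pullback q).obj H) e).comp (OmegaSh.pullSect q H U).hom

lemma pullSectLE_apply (q : X ⟶ Y) (H : Y.Modules) (U : Y.Opens) (V : X.Opens) (e : V ≤ q ⁻¹ᵁ U) (s : Γ(H, U)) :
    pullSectLE q H U V e s = res ((Scheme.Modules.pullback q).obj H) e (OmegaSh.pullSect q H U s) := rfl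

lemma pullSectLE_smul (q : X ⟶ Y) (H : Y.Modules) (U : Y.Opens) (V : X.Opens) (e : V ≤ q ⁻¹ᵁ U)
    (r : Γ(Y, U)) (s : Γ(H, U)) :
    pullSectLE q H U V e (r • s) = (q.appLE U V e).hom r • pullSectLE q H U V e s := by
  rw [pullSectLE_apply, pullSectLE_apply, OmegaSh.pullSect_smul, res_smul]
  rfl

lemma res_pullSectLE (q : X ⟶ Y) (H : Y.Modules) {U U' : Y.Opens} {V V' : X.Opens} (hU : U' ≤ U) (hV : V' ≤ V)
    (e : V ≤ q ⁻¹ᵁ U) (e' : V' ≤ q ⁻¹ᵁ U') (s : Γ(H, U)) :
    res ((Scheme.Modules.pullback q).obj H) hV (pullSectLE q H U V e s) =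
      pullSectLE q H U' V' e' (res H hU s) := by
  rw [pullSectLE_apply, pullSectLE_apply, res_res]
  refine Eq.trans ?_ (congrArg (res _ e') (OmegaSh.pullSect_map q H hU s).symm)
  exact (res_res _ _ _ _).symm

lemma app_pullSectLE (q : X ⟶ Y) {H H' : Y.Modules} (φ : H ⟶ H') (U : Y.Opens) (V : X.Opens) (e : V ≤ q ⁻¹ᵁ U)
    (s : Γ(H, U)) :
    ((Scheme.Modules.pullback q).map φ).app V (pullSectLE q H U V e s) = pullSectLE q H' U V e (φ.app U s) := by
  rw [pullSectLE_apply, pullSectLE_apply, ← app_res, app_pullSect]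

/-- **Sections of a pullback over affine opens are the base change.** -/
theorem exists_bijective_liftBaseChange (q : X ⟶ Y) (H : Y.Modules) [hH : Coh.IsQCoh H] {U : Y.Opens}
    (hU : IsAffineOpen U) {V : X.Opens} (hV : IsAffineOpen V) (e : V ≤ q ⁻¹ᵁ U) :
    letI : Algebra Γ(Y, U) Γ(X, V) := (q.appLE U V e).hom.toAlgebra
    ∃ Φ : Γ(X, V) ⊗[Γ(Y, U)] Γ(H, U) ≃ₗ[Γ(X, V)] Γ((Scheme.Modules.pullback q).obj H, V),
      ∀ s, Φ (1 ⊗ₜ s) = pullSectLE q H U V e s := by
  letI : Algebra Γ(Y, U) Γ(X, V) := (q.appLE U V e).hom.toAlgebra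
  let R := Γ(Y, U)
  let S := Γ(X, V)
  let φ := q.appLE U V e
  let g := hU.fromSpec
  let j := hV.fromSpec
  have hΔ : j ≫ q = Spec.map φ ≫ g := (IsAffineOpen.SpecMap_appLE_fromSpec q hU hV e).symm
  haveI : (H.restrict g).IsQuasicoherent := isQCoh_restrict _ hH
  let M : ModuleCat.{u} R := (modulesSpecToSheaf.obj (H.restrict g)).presheaf.obj (op ⊤)
  let eH : H.restrict g ⟶ tilde M := (isoTildeΓ (H.restrict g)).inv
  let P := (Scheme.Modules.pullback q).obj H
  let Ω := (ModuleCat.extendScalars.{u, u, u} φ.hom).obj M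
  haveI : IsIso (sqMap j q (Spec.map φ) g hΔ H eH) := inferInstance
  let ψ : (Scheme.Modules.pullback j).obj P ⟶ tilde Ω :=
    sqMap j q (Spec.map φ) g hΔ H eH ≫ (pullbackTildeIso φ).hom.app M ≫ (tilde.functor S).map (𝟙 Ω)
  haveI : IsIso ψ := IsIso.comp_isIso' (by assumption) inferInstance
  let L := (tilde.isoTop Ω).toLinearEquiv
  have himg : j ''ᵁ ⊤ = V := image_fromSpec_top hV
  have htop : ⊤ ≤ j ⁻¹ᵁ (j ''ᵁ ⊤) := (j.preimage_image_eq ⊤).ge
  let T₀ : Γ(P, j ''ᵁ ⊤) →+ (Ω : Type u) :=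
    (L.symm.toAddEquiv.toAddMonoidHom.comp (ψ.app ⊤).hom).comp
      ((res ((Scheme.Modules.pullback j).obj P) htop).comp (OmegaSh.pullSect j P (j ''ᵁ ⊤)).hom)
  have hT₀ : Function.Bijective T₀ :=
    (L.symm.bijective.comp (ConcreteCategory.bijective_of_isIso (ψ.app ⊤))).comp (bijective_res_pullSect j P htop)
  let T : Γ(P, V) →+ (Ω : Type u) := T₀.comp (res P himg.le)
  have hres : Function.Bijective (res P himg.le) := ⟨fun a b h => by
      have := congrArg (res P himg.ge) h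
      rwa [res_res, res_res, res_self, res_self] at this,
    fun c => ⟨res P himg.ge c, by rw [res_res, res_self]⟩⟩
  have hTbij : Function.Bijective T := hT₀.comp hres
  have htop' : ⊤ ≤ j ⁻¹ᵁ V := htop.trans (j.preimage_mono himg.le)
  have hTsmul : ∀ (a : S) (m : Γ(P, V)), T (a • m) = a • T m := by
    intro a m
    show T₀ (res P himg.le (a • m)) = a • T₀ (res P himg.le m)
    rw [res_smul]
    apply L.injective
    refine Eq.trans ?_ (L.map_smul _ _).symm
    change L (L.symm (ψ.app ⊤ (res _ htop (OmegaSh.pullSect j P _ (resO X himg.le a • res P himg.le m))))) =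
      _ • L (L.symm (ψ.app ⊤ (res _ htop (OmegaSh.pullSect j P _ (res P himg.le m)))))
    rw [L.apply_symm_apply, L.apply_symm_apply, OmegaSh.pullSect_smul, res_smul, Scheme.Modules.Hom.app_smul]
    refine Eq.trans ?_ (Scheme.Modules.smul_Spec_def _ _).symm
    congr 1
    have h1 : j.appLE (j ''ᵁ ⊤) ⊤ htop (resO X himg.le a) = j.appLE V ⊤ htop' a := by
      show (X.presheaf.map (homOfLE himg.le).op ≫ j.appLE (j ''ᵁ ⊤) ⊤ htop) a = _
      rw [Scheme.Hom.map_appLE]
    refine h1.trans ?_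
    have h2 : j.appLE V ⊤ htop' = (Scheme.ΓSpecIso Γ(X, V)).inv ≫
        (Spec Γ(X, V)).presheaf.map (⊤ : (Spec Γ(X, V)).Opens).leTop.op := by
      rw [Scheme.Hom.appLE, hV.fromSpec_app_self, Category.assoc, ← Functor.map_comp]
      rfl
    rw [h2]
    rfl
  have hTpull : ∀ s : Γ(H, U),
      T (pullSectLE q H U V e s) = (1 : S) ⊗ₜ[R] ((topEquiv hU H).symm s : Γ(H.restrict g, ⊤)) := by
    intro s
    have hle : ⊤ ≤ j ⁻¹ᵁ (q ⁻¹ᵁ U) := htop'.trans (j.preimage_mono e)
    have hg : ⊤ ≤ g ⁻¹ᵁ U := by rw [hU.fromSpec_preimage_self]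
    have hgN : g ''ᵁ ⊤ ≤ U := (image_fromSpec_top hU).le
    apply L.injective
    show L (L.symm (ψ.app ⊤ (res _ htop (OmegaSh.pullSect j P _ (res P himg.le (pullSectLE q H U V e s)))))) = _
    rw [L.apply_symm_apply]
    have step : res ((Scheme.Modules.pullback j).obj P) htop
        (OmegaSh.pullSect j P _ (res P himg.le (pullSectLE q H U V e s))) =
        res ((Scheme.Modules.pullback j).obj P) hle
          (OmegaSh.pullSect j P (q ⁻¹ᵁ U) (OmegaSh.pullSect q H U s)) := by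
      rw [pullSectLE_apply, res_res]
      refine (congrArg (res _ htop) (OmegaSh.pullSect_map j P (himg.le.trans e) _)).trans ?_
      exact res_res _ _ _ _
    rw [step]
    refine pullSect_square_tilde φ j q g hΔ H U s hle hg hgN M eH ((topEquiv hU H).symm s) ?_ Ω (𝟙 Ω) _ rfl
    show eH.app ⊤ (res H hgN s) = _
    rw [← isoTildeΓ_inv_app_top]
    congr 1
  let Te : Γ(P, V) ≃ₗ[S] (Ω : Type u) :=
    LinearEquiv.ofBijective ({ T with map_smul' := hTsmul } : Γ(P, V) →ₗ[S] (Ω : Type u)) hTbij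
  let E : S ⊗[R] Γ(H, U) ≃ₗ[S] (Ω : Type u) := LinearEquiv.baseChange R S _ _ (topEquiv hU H).symm
  refine ⟨E.trans Te.symm, fun s => ?_⟩
  rw [LinearEquiv.trans_apply, LinearEquiv.symm_apply_eq]
  exact (hTpull s).symm

end Groth.Agent.ModDesc
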