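import Mathlib
import Groth.Agent.ModDesc.BaseChange
import Groth.Agent.ZCl.Basic

/-!
# Transport of sections along composites of pullbacks, and gluing of morphisms of modules
-/

universe u

open CategoryTheory CategoryTheory.Limits AlgebraicGeometry TopologicalSpace Opposite TensorProduct

set_option backward.isDefEq.respectTransparency false
set_option linter.style.haveILetI false

noncomputable section

namespace Groth.Agent.ModDesc

open Groth.Agent.QC

variable {T Z X Y : Scheme.{u}}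

lemma res_bijective_of_eq (M : X.Modules) {A B : X.Opens} (h : A = B) :
    Function.Bijective (res M h.le) := by
  subst h
  exact ⟨fun a b e => by rwa [res_self, res_self] at e, fun c => ⟨c, res_self _ _ _⟩⟩

lemma res_bijective_of_eq_ring {A B : X.Opens} (h : A = B) : Function.Bijective (resO X h.le) := by
  subst h
  exact ⟨fun a b e => by rwa [resO_self, resO_self] at e, fun c => ⟨c, resO_self _ _⟩⟩

/-- The composite of pullbacks, rewritten along an equality. -/
def trIso (q : T ⟶ X) (g : X ⟶ Y) {r : T ⟶ Y} (w : q ≫ g = r) :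
    Scheme.Modules.pullback g ⋙ Scheme.Modules.pullback q ≅ Scheme.Modules.pullback r :=
  Scheme.Modules.pullbackComp q g ≪≫ Scheme.Modules.pullbackCongr w

/-- Transport of a section of `g^* H` along `q`. -/
def tr (q : T ⟶ X) (g : X ⟶ Y) {r : T ⟶ Y} (w : q ≫ g = r) (H : Y.Modules) (V : X.Opens) (W : T.Opens)
    (e : W ≤ q ⁻¹ᵁ V) :
    Γ((Scheme.Modules.pullback g).obj H, V) →+ Γ((Scheme.Modules.pullback r).obj H, W) :=
  (((trIso q g w).hom.app H).app W).hom.comp (pullSectLE q ((Scheme.Modules.pullback g).obj H) V W e)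

variable (q : T ⟶ X) (g : X ⟶ Y) {r : T ⟶ Y} (w : q ≫ g = r) (H : Y.Modules)

lemma tr_apply (V : X.Opens) (W : T.Opens) (e : W ≤ q ⁻¹ᵁ V) (m : Γ((Scheme.Modules.pullback g).obj H, V)) :
    tr q g w H V W e m = ((trIso q g w).hom.app H).app W (pullSectLE q _ V W e m) := rfl

lemma tr_smul (V : X.Opens) (W : T.Opens) (e : W ≤ q ⁻¹ᵁ V) (a : Γ(X, V))
    (m : Γ((Scheme.Modules.pullback g).obj H, V)) :
    tr q g w H V W e (a • m) = (q.appLE V W e).hom a • tr q g w H V W e m := by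
  rw [tr_apply, tr_apply, pullSectLE_smul, Scheme.Modules.Hom.app_smul]

lemma res_tr {V V' : X.Opens} {W W' : T.Opens} (hV : V' ≤ V) (hW : W' ≤ W) (e : W ≤ q ⁻¹ᵁ V)
    (e' : W' ≤ q ⁻¹ᵁ V') (m : Γ((Scheme.Modules.pullback g).obj H, V)) :
    res _ hW (tr q g w H V W e m) = tr q g w H V' W' e' (res _ hV m) := by
  rw [tr_apply, tr_apply, app_res]
  exact congrArg _ (res_pullSectLE q ((Scheme.Modules.pullback g).obj H) hV hW e e' m)

lemma tr_pullSectLE {U : Y.Opens} {V : X.Opens} (eV : V ≤ g ⁻¹ᵁ U) {W : T.Opens} (e : W ≤ q ⁻¹ᵁ V)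
    (e' : W ≤ r ⁻¹ᵁ U) (s : Γ(H, U)) :
    tr q g w H V W e (pullSectLE g H U V eV s) = pullSectLE r H U W e' s := by
  subst w
  rw [tr_apply]
  simp only [trIso, Iso.trans_hom, NatTrans.comp_app, Scheme.Modules.Hom.comp_app, ConcreteCategory.comp_apply]
  have h1 : pullSectLE q ((Scheme.Modules.pullback g).obj H) V W e (pullSectLE g H U V eV s) =
      res _ (e.trans (q.preimage_mono eV) : W ≤ q ⁻¹ᵁ (g ⁻¹ᵁ U))
        (OmegaSh.pullSect q _ (g ⁻¹ᵁ U) (OmegaSh.pullSect g H U s)) := by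
    refine (congrArg (res _ e) (OmegaSh.pullSect_map q _ eV (OmegaSh.pullSect g H U s))).trans ?_
    exact res_res _ _ _ _
  rw [h1]
  let F2 := ((Scheme.Modules.pullbackCongr (rfl : q ≫ g = q ≫ g)).hom.app H).app W
  refine (congrArg F2 (((app_res ((Scheme.Modules.pullbackComp q g).hom.app H) _ _).symm).trans
    (congrArg (res _ _) (pullbackComp_hom_pullSect q g H U s)))).trans ?_
  simp only [F2, Scheme.Modules.pullbackCongr]
  simp
  rfl

/-- Sections of a pullback over affines are generated by pulled back sections. -/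
lemma ext_of_pullSectLE {P : Type u} [AddCommGroup P] [Coh.IsQCoh H] {U : Y.Opens} (hU : IsAffineOpen U)
    {V : X.Opens} (hV : IsAffineOpen V) (e : V ≤ g ⁻¹ᵁ U)
    (f₁ f₂ : Γ((Scheme.Modules.pullback g).obj H, V) →+ P)
    (h : ∀ (a : Γ(X, V)) (s : Γ(H, U)), f₁ (a • pullSectLE g H U V e s) = f₂ (a • pullSectLE g H U V e s)) :
    f₁ = f₂ := by
  letI : Algebra Γ(Y, U) Γ(X, V) := (g.appLE U V e).hom.toAlgebra
  obtain ⟨Φ, hΦ⟩ := exists_bijective_liftBaseChange g H hU hV e
  refine AddMonoidHom.ext fun m => ?_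
  obtain ⟨z, rfl⟩ := Φ.surjective m
  induction z using TensorProduct.induction_on with
  | zero => simp
  | tmul a s =>
    have : Φ (a ⊗ₜ s) = a • pullSectLE g H U V e s := by
      rw [← hΦ, ← map_smul, smul_tmul', smul_eq_mul, mul_one]
    rw [this, h]
  | add x y hx hy => rw [map_add, map_add, map_add, hx, hy]

/-- Transitivity of the transport over affines. -/
lemma tr_tr {T' : Scheme.{u}} (q' : T' ⟶ T) {r' : T' ⟶ Y} (w' : q' ≫ r = r') {s : T' ⟶ X} (hs : q' ≫ q = s)
    (w'' : s ≫ g = r') [Coh.IsQCoh H] {U : Y.Opens} (hU : IsAffineOpen U) {V : X.Opens} (hV : IsAffineOpen V)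
    (eU : V ≤ g ⁻¹ᵁ U) {W : T.Opens} (e : W ≤ q ⁻¹ᵁ V) {W' : T'.Opens} (e' : W' ≤ q' ⁻¹ᵁ W)
    (e'' : W' ≤ s ⁻¹ᵁ V) (m : Γ((Scheme.Modules.pullback g).obj H, V)) :
    tr q' r w' H W W' e' (tr q g w H V W e m) = tr s g w'' H V W' e'' m := by
  refine DFunLike.congr_fun (ext_of_pullSectLE g H hU hV eU
    ((tr q' r w' H W W' e').comp (tr q g w H V W e)) (tr s g w'' H V W' e'') fun a t => ?_) m
  have e1 : W ≤ r ⁻¹ᵁ U := by
    rw [← w, Scheme.Hom.comp_preimage]; exact e.trans (q.preimage_mono eU)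
  have e2 : W' ≤ r' ⁻¹ᵁ U := by
    rw [← w', Scheme.Hom.comp_preimage]; exact e'.trans (q'.preimage_mono e1)
  show tr q' r w' H W W' e' (tr q g w H V W e (a • pullSectLE g H U V eU t)) = _
  rw [tr_smul, tr_smul, tr_smul, tr_pullSectLE q g w H eU e e1, tr_pullSectLE q' r w' H e1 e' e2,
    tr_pullSectLE s g w'' H eU e'' e2]
  congr 1
  show (q.appLE V W e ≫ q'.appLE W W' e').hom a = _
  subst hs
  rw [Scheme.Hom.appLE_comp_appLE]

/-- Transport of a morphism along `q`. -/
def bc {G : Y.Modules} (h : (Scheme.Modules.pullback g).obj G ⟶ (Scheme.Modules.pullback g).obj H) :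
    (Scheme.Modules.pullback r).obj G ⟶ (Scheme.Modules.pullback r).obj H :=
  ((trIso q g w).app G).inv ≫ (Scheme.Modules.pullback q).map h ≫ ((trIso q g w).app H).hom

lemma bc_app_tr {G : Y.Modules} (h : (Scheme.Modules.pullback g).obj G ⟶ (Scheme.Modules.pullback g).obj H)
    (V : X.Opens) (W : T.Opens) (e : W ≤ q ⁻¹ᵁ V) (m : Γ((Scheme.Modules.pullback g).obj G, V)) :
    (bc q g w H h).app W (tr q g w G V W e m) = tr q g w H V W e (h.app V m) := by
  simp only [bc, tr_apply, Scheme.Modules.Hom.comp_app, ConcreteCategory.comp_apply, Iso.app_hom, Iso.app_inv]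
  let F3 := ((trIso q g w).hom.app H).app W
  let F2 := ((Scheme.Modules.pullback q).map h).app W
  refine (congrArg (fun x => F3 (F2 x)) (congr(($((trIso q g w).hom_inv_id_app G)).app W
    (pullSectLE q ((Scheme.Modules.pullback g).obj G) V W e m)))).trans ?_
  exact congrArg F3 (app_pullSectLE q h V W e m)

/-- Morphisms out of a pullback are determined by pulled back sections over affines. -/
lemma hom_ext_pullback {G : Y.Modules} {N : X.Modules}
    (φ₁ φ₂ : (Scheme.Modules.pullback g).obj G ⟶ N)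
    (h : ∀ y : Y, ∀ (O : Y.Opens), y ∈ O → ∃ U ≤ O, y ∈ U ∧ ∀ (s : Γ(G, U)),
      φ₁.app (g ⁻¹ᵁ U) (pullSectLE g G U _ le_rfl s) = φ₂.app (g ⁻¹ᵁ U) (pullSectLE g G U _ le_rfl s)) :
    φ₁ = φ₂ := by
  apply ((Scheme.Modules.pullbackPushforwardAdjunction g).homEquiv G N).injective
  apply Scheme.Modules.hom_ext
  intro O
  ext s
  simp only [Adjunction.homEquiv_unit, Scheme.Modules.Hom.comp_app, ConcreteCategory.comp_apply]
  show φ₁.app (g ⁻¹ᵁ O) (OmegaSh.pullSect g G O s) = φ₂.app (g ⁻¹ᵁ O) (OmegaSh.pullSect g G O s)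
  refine section_eq_of_locally fun x hx => ?_
  obtain ⟨U, hUO, hxU, hU⟩ := h (g x) O hx
  refine ⟨g ⁻¹ᵁ U, g.preimage_mono hUO, hxU, ?_⟩
  have := hU (res G hUO s)
  rw [← res_pullSectLE g G hUO (g.preimage_mono hUO) (le_refl (g ⁻¹ᵁ O)) le_rfl, ← app_res, ← app_res] at this
  rw [pullSectLE_apply, res_self] at this
  exact this

/-- A morphism of modules may be prescribed on the opens subordinate to a cover. -/
lemma exists_hom_of_local {M N : X.Modules} {ι : Type u} (U : ι → X.Opens) (hU : ∀ x, ∃ i, x ∈ U i)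
    (f : ∀ i, ∀ V : X.Opens, V ≤ U i → (Γ(M, V) →ₗ[Γ(X, V)] Γ(N, V)))
    (hnat : ∀ i (V' V : X.Opens) (h : V' ≤ V) (hV : V ≤ U i) (s : Γ(M, V)),
      res N h (f i V hV s) = f i V' (h.trans hV) (res M h s))
    (hagree : ∀ i j (V : X.Opens) (hi : V ≤ U i) (hj : V ≤ U j) (s : Γ(M, V)), f i V hi s = f j V hj s) :
    ∃ φ : M ⟶ N, ∀ i (V : X.Opens) (hV : V ≤ U i) (s : Γ(M, V)), φ.app V s = f i V hV s := by
  have hex : ∀ (O : X.Opens) (s : Γ(M, O)), ∃ t : Γ(N, O), ∀ i,
      res N (inf_le_left : O ⊓ U i ≤ O) t = f i (O ⊓ U i) inf_le_right (res M inf_le_left s) := by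
    intro O s
    refine ZCl.glue N (fun i => O ⊓ U i) (fun i => inf_le_left)
      (fun x hx => ⟨(hU x).choose, hx, (hU x).choose_spec⟩)
      (fun i => f i _ inf_le_right (res M inf_le_left s)) fun i j => ?_
    change res N _ _ = res N _ _
    rw [hnat, hnat, res_res, res_res]
    exact hagree i j _ _ _ _
  have huniq : ∀ (O : X.Opens) (t t' : Γ(N, O)),
      (∀ i, res N (inf_le_left : O ⊓ U i ≤ O) t = res N inf_le_left t') → t = t' := fun O t t' h =>
    ZCl.ext_cover N (fun i => O ⊓ U i) (fun i => inf_le_left)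
      (fun x hx => ⟨(hU x).choose, hx, (hU x).choose_spec⟩) t t' h
  choose F hF using hex
  have hlin : ∀ (O : X.Opens) (a : Γ(X, O)) (s : Γ(M, O)), F O (a • s) = a • F O s := fun O a s =>
    huniq O _ _ fun i => by rw [hF, res_smul, res_smul, hF, map_smul]
  have hadd : ∀ (O : X.Opens) (s t : Γ(M, O)), F O (s + t) = F O s + F O t := fun O s t =>
    huniq O _ _ fun i => by rw [hF, map_add, map_add, map_add, hF, hF]
  refine ⟨⟨PresheafOfModules.homMk
    { app := fun O => AddCommGrpCat.ofHom (AddMonoidHom.mk' (F O.unop) (hadd O.unop))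
      naturality := fun O O' e => ?_ } fun O a s => hlin O.unop a s⟩, fun i V hV s => ?_⟩
  · ext s
    show F O'.unop (res M (leOfHom e.unop) s) = res N (leOfHom e.unop) (F O.unop s)
    refine huniq _ _ _ fun i => ?_
    rw [hF, res_res, res_res, ← res_res N (show O'.unop ⊓ U i ≤ O.unop ⊓ U i from inf_le_inf_right _ (leOfHom e.unop))
      (inf_le_left : O.unop ⊓ U i ≤ O.unop), hF, hnat, res_res]
  · show F V s = f i V hV s
    refine huniq _ _ _ fun j => ?_
    rw [hF, hnat]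
    exact hagree j i _ _ _ _

end Groth.Agent.ModDesc
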