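import Mathlib
import Groth.Agent.ModDesc.Sect
import Groth.Agent.ModDesc.ColimAlg

/-!
# Sections of a quasi-coherent module over a limit of schemes
-/

universe u

open CategoryTheory CategoryTheory.Limits AlgebraicGeometry TopologicalSpace Opposite TensorProduct

set_option backward.isDefEq.respectTransparency false
set_option linter.style.haveILetI false

noncomputable section

namespace Groth.Agent.ModDesc

open Groth.Agent.QC

/-- The value of a transported section on a scalar multiple of a pulled back section. -/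
lemma tr_smul_pullSectLE {T X Y : Scheme.{u}} (q : T ⟶ X) (g : X ⟶ Y) {r : T ⟶ Y} (w : q ≫ g = r) (H : Y.Modules)
    {U : Y.Opens} {V : X.Opens} (eV : V ≤ g ⁻¹ᵁ U) {W : T.Opens} (e : W ≤ q ⁻¹ᵁ V) (e' : W ≤ r ⁻¹ᵁ U)
    (a : Γ(X, V)) (s : Γ(H, U)) :
    tr q g w H V W e (a • pullSectLE g H U V eV s) =
      (q.appLE V W e).hom a • pullSectLE r H U W e' s := by
  rw [tr_smul, tr_pullSectLE q g w H eV e e']

variable {I : Type u} [SmallCategory I] [IsCofiltered I] (D : I ⥤ Scheme.{u}) (c : Cone D) (hc : IsLimit c)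
  [∀ {i j : I} (f : i ⟶ j), IsAffineHom (D.map f)] {i₀ : I}

include hc in
lemma isAffineOpen_preimage_π {j : I} {V : (D.obj j).Opens} (hV : IsAffineOpen V) :
    IsAffineOpen (c.π.app j ⁻¹ᵁ V) :=
  haveI := isAffineHom_π_app D c hc j
  hV.preimage _

include hc in
/-- Functions on the preimage of an affine open come from a stage. -/
theorem exists_appLE_eq {j : I} {V : (D.obj j).Opens} (hV : IsAffineOpen V) (b : Γ(c.pt, c.π.app j ⁻¹ᵁ V)) :
    ∃ (k : I) (a : k ⟶ j) (t : Γ(D.obj k, D.map a ⁻¹ᵁ V)) (e : c.π.app j ⁻¹ᵁ V ≤ c.π.app k ⁻¹ᵁ (D.map a ⁻¹ᵁ V)),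
      ((c.π.app k).appLE (D.map a ⁻¹ᵁ V) (c.π.app j ⁻¹ᵁ V) e).hom t = b := by
  haveI : ∀ k : Over j, IsAffine ((opensDiagram D j V).obj k) := fun k => hV.preimage (D.map k.hom)
  obtain ⟨k, t, ht⟩ := exists_appTop_π_eq_of_isAffine_of_isLimit _ _ (isLimitOpensCone D c hc j V)
    ((c.π.app j ⁻¹ᵁ V).topIso.inv b)
  refine ⟨k.left, k.hom, (D.map k.hom ⁻¹ᵁ V).topIso.hom t, (congr($(c.w k.hom) ⁻¹ᵁ V)).ge, ?_⟩
  have key : (D.map k.hom ⁻¹ᵁ V).topIso.hom ≫ (c.π.app k.left).appLE (D.map k.hom ⁻¹ᵁ V) (c.π.app j ⁻¹ᵁ V)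
      (congr($(c.w k.hom) ⁻¹ᵁ V)).ge = ((opensCone D c j V).π.app k).appTop ≫ (c.π.app j ⁻¹ᵁ V).topIso.hom := by
    simp [Scheme.Hom.app_eq_appLE, Scheme.Hom.resLE_appLE]
  refine (congr(($key).hom t)).trans ?_
  exact (congrArg (c.π.app j ⁻¹ᵁ V).topIso.hom.hom ht).trans
    (congr(($((c.π.app j ⁻¹ᵁ V).topIso.inv_hom_id)).hom b))

variable (H : (D.obj i₀).Modules) [hH : Coh.IsQCoh H]

set_option maxHeartbeats 2000000 in
include hc hH in
/-- A section killed in the limit is killed at some stage. -/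
theorem exists_tr_eq_zero {U : (D.obj i₀).Opens} (hU : IsAffineOpen U) {j : I} (φ : j ⟶ i₀)
    (m : Γ((Scheme.Modules.pullback (D.map φ)).obj H, D.map φ ⁻¹ᵁ U))
    (hm : tr (c.π.app j) (D.map φ) (c.w φ) H (D.map φ ⁻¹ᵁ U) (c.π.app j ⁻¹ᵁ (D.map φ ⁻¹ᵁ U)) le_rfl m = 0) :
    ∃ (k : I) (a : k ⟶ j), tr (D.map a) (D.map φ) (D.map_comp a φ).symm H (D.map φ ⁻¹ᵁ U)
      (D.map a ⁻¹ᵁ (D.map φ ⁻¹ᵁ U)) le_rfl m = 0 := by
  let V := D.map φ ⁻¹ᵁ U
  have hV : IsAffineOpen V := hU.preimage _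
  let W : c.pt.Opens := c.π.app j ⁻¹ᵁ V
  have hW : IsAffineOpen W := isAffineOpen_preimage_π D c hc hV
  let A := Γ(D.obj i₀, U)
  let N : Type u := Γ(H, U)
  have eJ : ∀ K : (Over j)ᵒᵖ, D.map K.unop.hom ⁻¹ᵁ V ≤ D.map (K.unop.hom ≫ φ) ⁻¹ᵁ U := fun K => by
    rw [D.map_comp]; exact le_rfl
  let C : (Over j)ᵒᵖ → Type u := fun K => Γ(D.obj K.unop.left, D.map K.unop.hom ⁻¹ᵁ V)
  letI : ∀ K, Algebra A (C K) := fun K =>
    ((D.map (K.unop.hom ≫ φ)).appLE U (D.map K.unop.hom ⁻¹ᵁ V) (eJ K)).hom.toAlgebra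
  have eW : W ≤ c.π.app i₀ ⁻¹ᵁ U := (congr($(c.w φ) ⁻¹ᵁ U)).le
  letI : Algebra A Γ(c.pt, W) := ((c.π.app i₀).appLE U W eW).hom.toAlgebra
  have eT : ∀ {K L : (Over j)ᵒᵖ} (f : K ⟶ L),
      D.map L.unop.hom ⁻¹ᵁ V ≤ D.map f.unop.left ⁻¹ᵁ (D.map K.unop.hom ⁻¹ᵁ V) := fun {K L} f =>
    (congr($((congrArg D.map (Over.w f.unop)).symm.trans (D.map_comp _ _)) ⁻¹ᵁ V)).le
  let t : ∀ {K L : (Over j)ᵒᵖ}, (K ⟶ L) → (C K →ₐ[A] C L) := fun {K L} f =>
    { ((D.map f.unop.left).appLE _ _ (eT f)).hom with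
      commutes' := fun r => by
        show ((D.map (K.unop.hom ≫ φ)).appLE U _ (eJ K) ≫ (D.map f.unop.left).appLE _ _ (eT f)).hom r =
          ((D.map (L.unop.hom ≫ φ)).appLE U _ (eJ L)).hom r
        rw [Scheme.Hom.appLE_comp_appLE]
        congr 3
        rw [← D.map_comp, ← Category.assoc, Over.w f.unop] }
  have eP : ∀ K : (Over j)ᵒᵖ, W ≤ c.π.app K.unop.left ⁻¹ᵁ (D.map K.unop.hom ⁻¹ᵁ V) := fun K =>
    (congr($(c.w K.unop.hom) ⁻¹ᵁ V)).ge
  let π : ∀ K : (Over j)ᵒᵖ, C K →ₐ[A] Γ(c.pt, W) := fun K =>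
    { ((c.π.app K.unop.left).appLE _ _ (eP K)).hom with
      commutes' := fun r => by
        show ((D.map (K.unop.hom ≫ φ)).appLE U _ (eJ K) ≫ (c.π.app K.unop.left).appLE _ _ (eP K)).hom r =
          ((c.π.app i₀).appLE U W eW).hom r
        rw [Scheme.Hom.appLE_comp_appLE]
        congr 3
        exact c.w _ }
  have htt : ∀ {K L M : (Over j)ᵒᵖ} (f : K ⟶ L) (g : L ⟶ M) (x : C K), t (f ≫ g) x = t g (t f x) := by
    intro K L M f g x
    show ((D.map (f ≫ g).unop.left).appLE _ _ (eT (f ≫ g))).hom x =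
      ((D.map f.unop.left).appLE _ _ (eT f) ≫ (D.map g.unop.left).appLE _ _ (eT g)).hom x
    rw [Scheme.Hom.appLE_comp_appLE]
    congr 3
    rw [← D.map_comp]
    rfl
  have hπ : ∀ {K L : (Over j)ᵒᵖ} (f : K ⟶ L) (x : C K), π L (t f x) = π K x := by
    intro K L f x
    show ((D.map f.unop.left).appLE _ _ (eT f) ≫ (c.π.app L.unop.left).appLE _ _ (eP L)).hom x =
      ((c.π.app K.unop.left).appLE _ _ (eP K)).hom x
    rw [Scheme.Hom.appLE_comp_appLE]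
    congr 3
    exact c.w _
  have hsurj : ∀ b : Γ(c.pt, W), ∃ K x, π K x = b := fun b => by
    obtain ⟨k, a, x, e, hx⟩ := exists_appLE_eq D c hc hV b
    exact ⟨op (Over.mk a), x, hx⟩
  have hinj : ∀ (K : (Over j)ᵒᵖ) (x : C K), π K x = 0 → ∃ (L : (Over j)ᵒᵖ) (f : K ⟶ L), t f x = 0 := by
    intro K x hx
    have hc' : IsCompact (X := D.obj K.unop.left) (D.map K.unop.hom ⁻¹ᵁ V : (D.obj K.unop.left).Opens) :=
      (hV.preimage (D.map K.unop.hom)).isCompact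
    obtain ⟨l, g, hg⟩ := exists_app_map_eq_zero_of_isLimit D c hc hc' x (by
      have h2 : ((c.π.app K.unop.left).app (D.map K.unop.hom ⁻¹ᵁ V) ≫
          c.pt.presheaf.map (homOfLE (eP K)).op).hom x = 0 := hx
      rw [CommRingCat.comp_apply] at h2
      exact (res_bijective_of_eq_ring (congr($(c.w K.unop.hom) ⁻¹ᵁ V)).symm).1 (h2.trans (map_zero _).symm))
    refine ⟨op (Over.mk (g ≫ K.unop.hom)), (Over.homMk g : Over.mk (g ≫ K.unop.hom) ⟶ K.unop).op, ?_⟩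
    show ((D.map g).app _ ≫ (D.obj l).presheaf.map _).hom x = 0
    rw [CommRingCat.comp_apply, hg, map_zero]
  obtain ⟨Φ, hΦ⟩ := exists_bijective_liftBaseChange (D.map φ) H hU hV le_rfl
  let K₀ : (Over j)ᵒᵖ := op (Over.mk (𝟙 j))
  letI : Algebra A Γ(D.obj j, V) := ((D.map φ).appLE U V le_rfl).hom.toAlgebra
  let z : Γ(D.obj j, V) ⊗[A] N := Φ.symm m
  let ι₀ : Γ(D.obj j, V) →ₐ[A] C K₀ :=
    { ((D.map (𝟙 j)).appLE V (D.map (𝟙 j) ⁻¹ᵁ V) le_rfl).hom with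
      commutes' := fun r => by
        show ((D.map φ).appLE U V le_rfl ≫ (D.map (𝟙 j)).appLE V (D.map (𝟙 j) ⁻¹ᵁ V) le_rfl).hom r =
          ((D.map (𝟙 j ≫ φ)).appLE U _ (eJ K₀)).hom r
        rw [Scheme.Hom.appLE_comp_appLE]
        congr 3
        rw [← D.map_comp] }
  obtain ⟨ΦW, hΦW⟩ := exists_bijective_liftBaseChange (X := c.pt) (c.π.app i₀) H hU hW eW
  have key : ∀ z : Γ(D.obj j, V) ⊗[A] N,
      tr (c.π.app j) (D.map φ) (c.w φ) H V W le_rfl (Φ z) =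
        ΦW (((π K₀).comp ι₀).toLinearMap.rTensor N z) := by
    intro z
    induction z using TensorProduct.induction_on with
    | zero => simp
    | tmul b s =>
      rw [LinearMap.rTensor_tmul, show b ⊗ₜ[A] s = b • ((1 : Γ(D.obj j, V)) ⊗ₜ[A] s) by
        rw [smul_tmul', smul_eq_mul, mul_one], map_smul, hΦ, tr_smul_pullSectLE (e' := eW)]
      rw [show (((π K₀).comp ι₀).toLinearMap b) ⊗ₜ[A] s =
        (((π K₀).comp ι₀).toLinearMap b) • ((1 : Γ(c.pt, W)) ⊗ₜ[A] s) by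
        rw [smul_tmul', smul_eq_mul, mul_one], map_smul, hΦW]
      congr 1
      show ((c.π.app j).appLE V W le_rfl).hom b =
        ((D.map (𝟙 j)).appLE V (D.map (𝟙 j) ⁻¹ᵁ V) le_rfl ≫ (c.π.app j).appLE _ W (eP K₀)).hom b
      rw [Scheme.Hom.appLE_comp_appLE]
      congr 3
      exact (c.w (𝟙 j)).symm
    | add a b ha hb => simp only [map_add, ha, hb]
  have hz : (π K₀).toLinearMap.rTensor N (ι₀.toLinearMap.rTensor N z) = 0 := by
    rw [← LinearMap.comp_apply, ← LinearMap.rTensor_comp]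
    apply ΦW.injective
    rw [map_zero]
    refine (key z).symm.trans ?_
    rw [LinearEquiv.apply_symm_apply]
    exact hm
  obtain ⟨L, f, hL⟩ := exists_rTensor_eq_zero t π htt hπ hsurj hinj N K₀ _ hz
  let a : L.unop.left ⟶ j := L.unop.hom
  refine ⟨L.unop.left, a, ?_⟩
  have eL : D.map a ⁻¹ᵁ V ≤ D.map (a ≫ φ) ⁻¹ᵁ U := eJ L
  obtain ⟨ΦL, hΦL⟩ := exists_bijective_liftBaseChange (D.map (a ≫ φ)) H hU (hV.preimage (D.map a)) eL
  have keyL : ∀ z : Γ(D.obj j, V) ⊗[A] N,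
      tr (D.map a) (D.map φ) (D.map_comp a φ).symm H V (D.map a ⁻¹ᵁ V) le_rfl (Φ z) =
        ΦL (((t f).comp ι₀).toLinearMap.rTensor N z) := by
    intro z
    induction z using TensorProduct.induction_on with
    | zero => simp
    | tmul b s =>
      rw [LinearMap.rTensor_tmul, show b ⊗ₜ[A] s = b • ((1 : Γ(D.obj j, V)) ⊗ₜ[A] s) by
        rw [smul_tmul', smul_eq_mul, mul_one], map_smul, hΦ, tr_smul_pullSectLE (e' := eL)]
      rw [show (((t f).comp ι₀).toLinearMap b) ⊗ₜ[A] s =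
        (((t f).comp ι₀).toLinearMap b) • ((1 : C L) ⊗ₜ[A] s) by
        rw [smul_tmul', smul_eq_mul, mul_one], map_smul, hΦL]
      congr 1
      show ((D.map a).appLE V _ le_rfl).hom b =
        ((D.map (𝟙 j)).appLE V (D.map (𝟙 j) ⁻¹ᵁ V) le_rfl ≫ (D.map f.unop.left).appLE _ _ (eT f)).hom b
      rw [Scheme.Hom.appLE_comp_appLE]
      congr 3
      rw [← D.map_comp]
      congr 1
      simpa [a, K₀] using (Over.w f.unop).symm
    | add a b ha hb => simp only [map_add, ha, hb]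
  rw [← Φ.apply_symm_apply m]
  refine (keyL z).trans ?_
  rw [show ((t f).comp ι₀).toLinearMap = (t f).toLinearMap ∘ₗ ι₀.toLinearMap from rfl, LinearMap.rTensor_comp,
    LinearMap.comp_apply, hL, map_zero]

end Groth.Agent.ModDesc
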