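import Mathlib
import Groth.Agent.ModDesc.Limit
import Groth.Agent.QC.Generated

/-!
# Local families of linear maps of sections
-/

universe u

open CategoryTheory CategoryTheory.Limits AlgebraicGeometry TopologicalSpace Opposite TensorProduct

set_option backward.isDefEq.respectTransparency false
set_option linter.style.haveILetI false

noncomputable section

namespace Groth.Agent.ModDesc

open Groth.Agent.QC

variable {X : Scheme.{u}}

/-- A morphism of modules over an open subscheme, as a family of maps of sections. -/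
structure Fam (M N : X.Modules) (U : X.Opens) where
  /-- the maps -/
  f : ∀ V : X.Opens, V ≤ U → (Γ(M, V) →ₗ[Γ(X, V)] Γ(N, V))
  nat : ∀ (V' V : X.Opens) (h : V' ≤ V) (hV : V ≤ U) (s : Γ(M, V)),
    res N h (f V hV s) = f V' (h.trans hV) (res M h s)

/-- A morphism as a family. -/
def Fam.ofHom {M N : X.Modules} (φ : M ⟶ N) (U : X.Opens) : Fam M N U where
  f V _ := { toFun := fun s => φ.app V s, map_add' := map_add _, map_smul' := Scheme.Modules.Hom.app_smul _ }
  nat _ _ h _ s := app_res φ h s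

/-- A linear map on sections over an affine open extends to the opens inside it. -/
theorem exists_fam {M N : X.Modules} [hM : Coh.IsQCoh M] {U : X.Opens} (hU : IsAffineOpen U)
    (ψ : Γ(M, U) →ₗ[Γ(X, U)] Γ(N, U)) : ∃ F : Fam M N U, ∀ s, F.f U le_rfl s = ψ s := by
  let j := hU.fromSpec
  haveI : (M.restrict j).IsQuasicoherent := isQCoh_restrict _ hM
  let P := M.restrict j
  let Q := N.restrict j
  let g : (modulesSpecToSheaf.obj P).presheaf.obj (op ⊤) ⟶ (modulesSpecToSheaf.obj Q).presheaf.obj (op ⊤) :=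
    (ModuleCat.ofHom (R := Γ(X, U)) (X := Γ(P, ⊤)) (Y := Γ(Q, ⊤))
      (((topEquiv hU N).symm.toLinearMap).comp (ψ.comp (topEquiv hU M).toLinearMap)) :)
  let Ψ : P ⟶ Q := (isoTildeΓ P).inv ≫ tilde.map g ≫ Q.fromTildeΓ
  have hΨtop : ∀ a : Γ(P, ⊤), Ψ.app ⊤ a = (topEquiv hU N).symm (ψ (topEquiv hU M a)) := by
    intro a
    simp only [Ψ, Scheme.Modules.Hom.comp_app, ConcreteCategory.comp_apply]
    let F2 := Q.fromTildeΓ.app ⊤
    let F1 := (tilde.map g).app ⊤
    refine (congrArg (fun x => F2 (F1 x)) (isoTildeΓ_inv_app_top P a)).trans ?_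
    refine (congrArg F2 (tildeMap_app_toOpen g a)).trans ?_
    refine congr($(Scheme.Modules.toOpen_fromTildeΓ_app Q ⊤) (g a)).trans ?_
    exact res_self Q le_rfl _
  have himg : ∀ V : X.Opens, V ≤ U → j ''ᵁ (j ⁻¹ᵁ V) = V := fun V hV => by
    refine le_antisymm (j.image_preimage_le V) fun x hx => ?_
    obtain ⟨y, hy⟩ := hU.range_fromSpec.superset (hV hx)
    exact ⟨y, show j y ∈ V from hy ▸ hx, hy⟩
  let E : ∀ (P' : X.Modules) (V : X.Opens) (hV : V ≤ U), Γ(P'.restrict j, j ⁻¹ᵁ V) ≃+ Γ(P', V) :=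
    fun P' V hV => secEquiv hU P' (j ⁻¹ᵁ V) (himg V hV)
  have hEsmul : ∀ (P' : X.Modules) (V : X.Opens) (hV : V ≤ U) (r : Γ(X, V)) (s : Γ(P'.restrict j, j ⁻¹ᵁ V)),
      E P' V hV ((j.app V).hom r • s) = r • E P' V hV s := by
    intro P' V hV r s
    show res P' _ ((P'.restrictAppIso j (j ⁻¹ᵁ V)).hom ((j.app V).hom r • s)) =
      r • res P' _ ((P'.restrictAppIso j (j ⁻¹ᵁ V)).hom s)
    refine (congrArg (res P' (himg V hV).ge)
      (P'.smul_restrictAppIso_hom_apply j (j ⁻¹ᵁ V) ((j.app V).hom r) s)).trans ?_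
    rw [res_smul]
    congr 1
    show (j.app V ≫ (j.appIso (j ⁻¹ᵁ V)).inv ≫ X.presheaf.map (homOfLE (himg V hV).ge).op).hom r = r
    rw [← Category.assoc, Scheme.Hom.app_eq_appLE, Scheme.Hom.appLE_appIso_inv, ← Functor.map_comp,
      show ((homOfLE _).op ≫ (homOfLE (himg V hV).ge).op : op V ⟶ op V) = 𝟙 _ from Subsingleton.elim _ _,
      CategoryTheory.Functor.map_id]
    rfl
  refine ⟨{
    f := fun V hV =>
      { toFun := fun s => E N V hV (Ψ.app (j ⁻¹ᵁ V) ((E M V hV).symm s))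
        map_add' := fun a b => by simp only [map_add]
        map_smul' := fun r s => by
          have : (E M V hV).symm (r • s) = (j.app V).hom r • (E M V hV).symm s := by
            rw [AddEquiv.symm_apply_eq, hEsmul M V hV r, AddEquiv.apply_symm_apply]
          rw [this, Scheme.Modules.Hom.app_smul, hEsmul N V hV r]
          rfl }
    nat := fun V' V h hV s => ?_ }, fun s => ?_⟩
  · show res N h (E N V hV (Ψ.app (j ⁻¹ᵁ V) ((E M V hV).symm s))) =
      E N V' (h.trans hV) (Ψ.app (j ⁻¹ᵁ V') ((E M V' (h.trans hV)).symm (res M h s)))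
    have h1 : (E M V' (h.trans hV)).symm (res M h s) = res P (j.preimage_mono h) ((E M V hV).symm s) := by
      rw [AddEquiv.symm_apply_eq]
      refine Eq.trans ?_ (secEquiv_res hU (j.preimage_mono h) _ (himg V hV) _).symm
      rw [show secEquiv hU M (j ⁻¹ᵁ V) (himg V hV) ((E M V hV).symm s) = s from (E M V hV).apply_symm_apply s]
    rw [h1, ← app_res]
    exact (secEquiv_res hU (j.preimage_mono h) _ (himg V hV) _).symm
  · have h : j ⁻¹ᵁ U = ⊤ := hU.fromSpec_preimage_self
    show E N U le_rfl (Ψ.app (j ⁻¹ᵁ U) ((E M U le_rfl).symm s)) = ψ s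
    have hM' : (E M U le_rfl).symm s = res P (le_top : j ⁻¹ᵁ U ≤ ⊤) ((topEquiv hU M).symm s) := by
      rw [AddEquiv.symm_apply_eq]
      refine Eq.trans ?_ (secEquiv_res hU le_top _ (image_fromSpec_top hU) _).symm
      rw [show secEquiv hU M ⊤ (image_fromSpec_top hU) ((topEquiv hU M).symm s) = s from
        (topEquiv hU M).apply_symm_apply s, res_self]
    rw [hM', ← app_res, hΨtop, LinearEquiv.apply_symm_apply]
    refine (secEquiv_res hU le_top _ (image_fromSpec_top hU) _).trans ?_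
    rw [show secEquiv hU N ⊤ (image_fromSpec_top hU) ((topEquiv hU N).symm (ψ s)) = ψ s from
      (topEquiv hU N).apply_symm_apply _, res_self]

/-- Families agreeing on an affine open agree on all opens inside it. -/
theorem Fam.eq_of_agree {M N : X.Modules} [hM : Coh.IsQCoh M] {U : X.Opens} (hU : IsAffineOpen U)
    {U₁ U₂ : X.Opens} (F₁ : Fam M N U₁) (F₂ : Fam M N U₂) (h₁ : U ≤ U₁) (h₂ : U ≤ U₂) (T : Set Γ(M, U))
    (hT : Submodule.span Γ(X, U) T = ⊤) (h : ∀ s ∈ T, F₁.f U h₁ s = F₂.f U h₂ s) (V : X.Opens) (hV : V ≤ U)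
    (s : Γ(M, V)) : F₁.f V (hV.trans h₁) s = F₂.f V (hV.trans h₂) s := by
  refine section_eq_of_locally fun x hx => ?_
  obtain ⟨a, ha, hxa⟩ := hU.exists_basicOpen_le ⟨x, hx⟩ (hV hx)
  refine ⟨X.basicOpen a, ha, hxa, ?_⟩
  rw [F₁.nat, F₂.nat]
  have hle := X.basicOpen_le a
  have := mem_span_basicOpen hU a hT (res M ha s)
  generalize res M ha s = y at this ⊢
  induction this using Submodule.span_induction with
  | mem y hy =>
    obtain ⟨z, hz, rfl⟩ := hy
    rw [← F₁.nat _ _ hle h₁, ← F₂.nat _ _ hle h₂, h z hz]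
  | zero => rw [map_zero, map_zero]
  | add a b _ _ ha hb => rw [map_add, map_add, ha, hb]
  | smul r a _ ha => rw [map_smul, map_smul, ha]

/-- Glue a morphism from families on an open cover which agree on generators over affine pieces of the
overlaps. -/
theorem exists_hom_of_fam {M N : X.Modules} [Coh.IsQCoh M] {ι : Type u} (U : ι → X.Opens) (hU : ∀ x, ∃ i, x ∈ U i)
    (F : ∀ i, Fam M N (U i))
    (hagree : ∀ i j x, x ∈ U i ⊓ U j → ∃ (P : X.Opens) (_ : IsAffineOpen P) (T : Set Γ(M, P)) (hi : P ≤ U i)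
      (hj : P ≤ U j), x ∈ P ∧ Submodule.span Γ(X, P) T = ⊤ ∧ ∀ s ∈ T, (F i).f P hi s = (F j).f P hj s) :
    ∃ φ : M ⟶ N, ∀ i (V : X.Opens) (hV : V ≤ U i) (s : Γ(M, V)), φ.app V s = (F i).f V hV s := by
  refine exists_hom_of_local U hU (fun i => (F i).f) (fun i => (F i).nat) fun i j V hi hj s => ?_
  refine section_eq_of_locally fun x hx => ?_
  obtain ⟨P, hP, T, hiP, hjP, hxP, hT, hagr⟩ := hagree i j x ⟨hi hx, hj hx⟩
  refine ⟨V ⊓ P, inf_le_left, ⟨hx, hxP⟩, ?_⟩
  rw [(F i).nat, (F j).nat]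
  exact Fam.eq_of_agree hP (F i) (F j) hiP hjP T hT hagr _ inf_le_right _

end Groth.Agent.ModDesc
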