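import Mathlib
import Groth.Agent.ModDesc.Fam
import Groth.Agent.LocFree.Props

/-!
# Descent of morphisms of modules along limits of schemes with affine transition maps
-/

universe u

open CategoryTheory CategoryTheory.Limits AlgebraicGeometry TopologicalSpace Opposite TensorProduct

set_option backward.isDefEq.respectTransparency false
set_option linter.style.haveILetI false
set_option linter.unusedSectionVars false

noncomputable section

namespace Groth.Agent.ModDesc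

open Groth.Agent.QC

section Trans

variable {T X Y : Scheme.{u}} (q : T ⟶ X) (g : X ⟶ Y) {r : T ⟶ Y} (w : q ≫ g = r) (H : Y.Modules)

lemma tr_app_smul (V : Y.Opens) (e : r ⁻¹ᵁ V ≤ q ⁻¹ᵁ (g ⁻¹ᵁ V)) (a : Γ(Y, V))
    (m : Γ((Scheme.Modules.pullback g).obj H, g ⁻¹ᵁ V)) :
    tr q g w H (g ⁻¹ᵁ V) (r ⁻¹ᵁ V) e ((g.app V).hom a • m) =
      (r.app V).hom a • tr q g w H (g ⁻¹ᵁ V) (r ⁻¹ᵁ V) e m := by
  rw [tr_smul]
  congr 1
  subst w
  show (g.app V ≫ q.appLE (g ⁻¹ᵁ V) ((q ≫ g) ⁻¹ᵁ V) e).hom a = _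
  rw [Scheme.Hom.app_eq_appLE, Scheme.Hom.appLE_comp_appLE, Scheme.Hom.app_eq_appLE]

/-- Transport, as a linear map of sections of pushforwards. -/
def trLin (V : Y.Opens) (e : r ⁻¹ᵁ V ≤ q ⁻¹ᵁ (g ⁻¹ᵁ V)) :
    Γ((Scheme.Modules.pushforward g).obj ((Scheme.Modules.pullback g).obj H), V) →ₗ[Γ(Y, V)]
      Γ((Scheme.Modules.pushforward r).obj ((Scheme.Modules.pullback r).obj H), V) where
  toFun m := tr q g w H (g ⁻¹ᵁ V) (r ⁻¹ᵁ V) e m
  map_add' x y := map_add (tr q g w H (g ⁻¹ᵁ V) (r ⁻¹ᵁ V) e) x y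
  map_smul' a m := tr_app_smul q g w H V e a m

lemma trLin_apply (V : Y.Opens) (e : r ⁻¹ᵁ V ≤ q ⁻¹ᵁ (g ⁻¹ᵁ V))
    (m : Γ((Scheme.Modules.pullback g).obj H, g ⁻¹ᵁ V)) :
    trLin q g w H V e m = tr q g w H (g ⁻¹ᵁ V) (r ⁻¹ᵁ V) e m := rfl

include w in
lemma preimage_le_of_comp (V : Y.Opens) : r ⁻¹ᵁ V ≤ q ⁻¹ᵁ (g ⁻¹ᵁ V) := by rw [← w]; rfl

/-- Transport of a family of maps into sections of a pullback. -/
def Fam.trans {G : Y.Modules} {U : Y.Opens}
    (F : Fam G ((Scheme.Modules.pushforward g).obj ((Scheme.Modules.pullback g).obj H)) U) :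
    Fam G ((Scheme.Modules.pushforward r).obj ((Scheme.Modules.pullback r).obj H)) U where
  f V hV := trLin q g w H V (preimage_le_of_comp q g w V) ∘ₗ F.f V hV
  nat V' V h hV s := by
    show res _ (r.preimage_mono h) (tr q g w H (g ⁻¹ᵁ V) (r ⁻¹ᵁ V) _ (F.f V hV s)) = _
    rw [res_tr q g w H (g.preimage_mono h) (r.preimage_mono h) _ (preimage_le_of_comp q g w V')]
    exact congrArg (tr q g w H (g ⁻¹ᵁ V') (r ⁻¹ᵁ V') _) (F.nat V' V h hV s)

lemma Fam.trans_apply {G : Y.Modules} {U : Y.Opens}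
    (F : Fam G ((Scheme.Modules.pushforward g).obj ((Scheme.Modules.pullback g).obj H)) U) (V : Y.Opens)
    (hV : V ≤ U) (s : Γ(G, V)) :
    (F.trans q g w H).f V hV s = tr q g w H (g ⁻¹ᵁ V) (r ⁻¹ᵁ V) (preimage_le_of_comp q g w V) (F.f V hV s) := rfl

end Trans

variable {I : Type u} [SmallCategory I] [IsCofiltered I] (D : I ⥤ Scheme.{u}) (c : Cone D) (hc : IsLimit c)
  [∀ {i j : I} (f : i ⟶ j), IsAffineHom (D.map f)] {i₀ : I}

/-- Later stages of a finite family. -/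
theorem exists_later {i : I} {ι : Type*} (s : Finset ι) (P : ι → ∀ k : I, (k ⟶ i) → Prop)
    (hP : ∀ n k (a : k ⟶ i) l (b : l ⟶ k), P n k a → P n l (b ≫ a)) (h : ∀ n ∈ s, ∃ k a, P n k a) :
    ∃ k a, ∀ n ∈ s, P n k a := by
  classical
  induction s using Finset.induction_on with
  | empty => exact ⟨i, 𝟙 i, by simp⟩
  | insert n s _ ih =>
    obtain ⟨k₁, a₁, h₁⟩ := ih fun m hm => h m (Finset.mem_insert_of_mem hm)
    obtain ⟨k₂, a₂, h₂⟩ := h n (Finset.mem_insert_self _ _)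
    obtain ⟨l, b₁, b₂, hb⟩ := IsCofiltered.cospan a₁ a₂
    refine ⟨l, b₁ ≫ a₁, fun m hm => ?_⟩
    rcases Finset.mem_insert.1 hm with rfl | hm
    · rw [hb]; exact hP _ _ _ _ _ h₂
    · exact hP _ _ _ _ _ (h₁ m hm)

variable (H : (D.obj i₀).Modules) [hH : Coh.IsQCoh H]

lemma preimage_le_of_stage {j : I} (φ : j ⟶ i₀) (U : (D.obj i₀).Opens) :
    c.π.app i₀ ⁻¹ᵁ U ≤ c.π.app j ⁻¹ᵁ (D.map φ ⁻¹ᵁ U) := (congr($(c.w φ) ⁻¹ᵁ U)).ge

lemma preimage_le_of_map {j k : I} (φ : j ⟶ i₀) (a : k ⟶ j) (U : (D.obj i₀).Opens) :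
    D.map (a ≫ φ) ⁻¹ᵁ U ≤ D.map a ⁻¹ᵁ (D.map φ ⁻¹ᵁ U) := (congr($(D.map_comp a φ) ⁻¹ᵁ U)).le

include hc hH in
/-- Finitely many sections killed in the limit are killed at a common stage. -/
theorem exists_forall_tr_eq_zero {j : I} (φ : j ⟶ i₀) {ι : Type*} (s : Finset ι) (U : ι → (D.obj i₀).Opens)
    (hU : ∀ n, IsAffineOpen (U n))
    (m : ∀ n, Γ((Scheme.Modules.pullback (D.map φ)).obj H, D.map φ ⁻¹ᵁ U n))
    (hm : ∀ n ∈ s, tr (c.π.app j) (D.map φ) (c.w φ) H (D.map φ ⁻¹ᵁ U n) (c.π.app i₀ ⁻¹ᵁ U n)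
      (preimage_le_of_stage D c φ (U n)) (m n) = 0) :
    ∃ (k : I) (a : k ⟶ j), ∀ n ∈ s, tr (D.map a) (D.map φ) (D.map_comp a φ).symm H (D.map φ ⁻¹ᵁ U n)
      (D.map (a ≫ φ) ⁻¹ᵁ U n) (preimage_le_of_map D φ a (U n)) (m n) = 0 := by
  refine exists_later s (fun n k a => tr (D.map a) (D.map φ) (D.map_comp a φ).symm H (D.map φ ⁻¹ᵁ U n)
      (D.map (a ≫ φ) ⁻¹ᵁ U n) (preimage_le_of_map D φ a (U n)) (m n) = 0) (fun n k a l b h => ?_) fun n hn => ?_
  · rw [← tr_tr (D.map a) (D.map φ) (D.map_comp a φ).symm H (D.map b)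
      (r' := D.map ((b ≫ a) ≫ φ)) (by rw [← D.map_comp, Category.assoc]) (D.map_comp b a).symm
      (D.map_comp _ φ).symm (hU n) ((hU n).preimage (D.map φ)) le_rfl (preimage_le_of_map D φ a (U n))
      (W' := D.map ((b ≫ a) ≫ φ) ⁻¹ᵁ U n)
      (by rw [Category.assoc]; exact preimage_le_of_map D (a ≫ φ) b (U n)) (preimage_le_of_map D φ (b ≫ a) (U n)),
      h, map_zero]
  · obtain ⟨k, a, hk⟩ := exists_tr_eq_zero D c hc H (hU n) φ (m n) (by
      have hle : c.π.app j ⁻¹ᵁ (D.map φ ⁻¹ᵁ U n) ≤ c.π.app i₀ ⁻¹ᵁ U n := (congr($(c.w φ) ⁻¹ᵁ U n)).le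
      have := congrArg (res _ hle) (hm n hn)
      rw [map_zero, res_tr (e' := le_rfl) (hV := le_rfl), res_self] at this
      exact this)
    refine ⟨k, a, ?_⟩
    have := congrArg (res _ (preimage_le_of_map D φ a (U n))) hk
    rw [map_zero, res_tr (e' := preimage_le_of_map D φ a (U n)) (hV := le_rfl), res_self] at this
    exact this

include hc hH in
/-- A section on the limit comes from a stage. -/
theorem exists_tr_eq {U : (D.obj i₀).Opens} (hU : IsAffineOpen U) 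
    (m : Γ((Scheme.Modules.pullback (c.π.app i₀)).obj H, c.π.app i₀ ⁻¹ᵁ U)) :
    ∃ (k : I) (φ : k ⟶ i₀) (m' : Γ((Scheme.Modules.pullback (D.map φ)).obj H, D.map φ ⁻¹ᵁ U)),
      tr (c.π.app k) (D.map φ) (c.w φ) H _ _ (preimage_le_of_stage D c φ U) m' = m := by
  have hW := isAffineOpen_preimage_π D c hc hU
  obtain ⟨Φ, hΦ⟩ := exists_bijective_liftBaseChange (X := c.pt) (c.π.app i₀) H hU hW le_rfl
  letI : Algebra Γ(D.obj i₀, U) Γ(c.pt, c.π.app i₀ ⁻¹ᵁ U) :=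
    ((c.π.app i₀).appLE U (c.π.app i₀ ⁻¹ᵁ U) le_rfl).hom.toAlgebra
  obtain ⟨z, rfl⟩ := Φ.surjective m
  induction z using TensorProduct.induction_on with
  | zero => exact ⟨i₀, 𝟙 i₀, 0, by simp⟩
  | tmul b s =>
    obtain ⟨k, φ, t, e, ht⟩ := exists_appLE_eq D c hc hU b
    refine ⟨k, φ, t • pullSectLE (D.map φ) H U _ le_rfl s, ?_⟩
    have h1 : tr (c.π.app k) (D.map φ) (c.w φ) H _ _ (preimage_le_of_stage D c φ U)
        (t • pullSectLE (D.map φ) H U _ le_rfl s) =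
        b • pullSectLE (c.π.app i₀) H U (c.π.app i₀ ⁻¹ᵁ U) le_rfl s := by
      refine (tr_smul_pullSectLE (c.π.app k) (D.map φ) (c.w φ) H le_rfl (preimage_le_of_stage D c φ U)
        le_rfl t s).trans ?_
      exact congrArg (· • pullSectLE (c.π.app i₀) H U (c.π.app i₀ ⁻¹ᵁ U) le_rfl s) ht
    rw [h1, ← hΦ, ← map_smul, smul_tmul', smul_eq_mul, mul_one]
  | add x y hx hy =>
    obtain ⟨k₁, φ₁, m₁, h₁⟩ := hx
    obtain ⟨k₂, φ₂, m₂, h₂⟩ := hy
    obtain ⟨l, a, b, hab⟩ := IsCofiltered.cospan φ₁ φ₂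
    refine ⟨l, a ≫ φ₁, tr (D.map a) (D.map φ₁) (D.map_comp a φ₁).symm H _ _ (preimage_le_of_map D φ₁ a U) m₁ +
      tr (D.map b) (D.map φ₂) (show D.map b ≫ D.map φ₂ = D.map (a ≫ φ₁) by rw [← D.map_comp, hab]) H
        (D.map φ₂ ⁻¹ᵁ U) _ (by rw [hab]; exact preimage_le_of_map D φ₂ b U) m₂, ?_⟩
    rw [map_add, map_add, tr_tr (D.map a) (D.map φ₁) (D.map_comp a φ₁).symm H (c.π.app l) (c.w _) (c.w a)
        (c.w φ₁) hU (hU.preimage _) le_rfl _ _ (preimage_le_of_stage D c φ₁ U),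
      tr_tr (D.map b) (D.map φ₂) _ H (c.π.app l) (c.w _) (c.w b) (c.w φ₂) hU (hU.preimage _) le_rfl _ _
        (preimage_le_of_stage D c φ₂ U), h₁, h₂]

section Cover

/-- finite affine cover -/
theorem exists_finite_cover (X : Scheme.{u}) [CompactSpace X] :
    ∃ t : Finset X.affineOpens, ∀ x : X, ∃ U ∈ t, x ∈ U.1 := by
  obtain ⟨t, ht⟩ := isCompact_univ.elim_finite_subcover (fun V : X.affineOpens => (V.1 : Set X))
    (fun V => V.1.2) (fun x _ => by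
      obtain ⟨V, hV, hxV, -⟩ := exists_isAffineOpen_mem_and_subset (x := x) (U := ⊤) trivial
      exact Set.mem_iUnion.mpr ⟨⟨V, hV⟩, hxV⟩)
  exact ⟨t, fun x => by simpa using ht (Set.mem_univ x)⟩

end Cover

/-- A morphism out of a pullback as a family on the base. -/
def famOfHom {X : Scheme.{u}} {r : X ⟶ D.obj i₀} {G : (D.obj i₀).Modules}
    (h : (Scheme.Modules.pullback r).obj G ⟶ (Scheme.Modules.pullback r).obj H) (U : (D.obj i₀).Opens) :
    Fam G ((Scheme.Modules.pushforward r).obj ((Scheme.Modules.pullback r).obj H)) U :=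
  Fam.ofHom ((Scheme.Modules.pullbackPushforwardAdjunction r).homEquiv _ _ h) U

lemma famOfHom_apply {X : Scheme.{u}} {r : X ⟶ D.obj i₀} {G : (D.obj i₀).Modules}
    (h : (Scheme.Modules.pullback r).obj G ⟶ (Scheme.Modules.pullback r).obj H) (U V : (D.obj i₀).Opens) (hV : V ≤ U)
    (s : Γ(G, V)) : (famOfHom D H h U).f V hV s = h.app (r ⁻¹ᵁ V) (pullSectLE r G V _ le_rfl s) := by
  show ((Scheme.Modules.pullbackPushforwardAdjunction r).homEquiv _ _ h).app V s = _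
  rw [Adjunction.homEquiv_unit, pullSectLE_apply, res_self]
  rfl

include hc hH in
/-- Agreement in the limit of homomorphisms from a finite type module happens at a stage. -/
theorem exists_bc_eq [CompactSpace (D.obj i₀)] {G : (D.obj i₀).Modules} [Coh.IsQCoh G] (hG : CohB1.IsFT G)
    {j : I} (φ : j ⟶ i₀) (h₁ h₂ : (Scheme.Modules.pullback (D.map φ)).obj G ⟶ (Scheme.Modules.pullback (D.map φ)).obj H)
    (heq : bc (c.π.app j) (D.map φ) (c.w φ) H h₁ = bc (c.π.app j) (D.map φ) (c.w φ) H h₂) :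
    ∃ (k : I) (a : k ⟶ j), bc (D.map a) (D.map φ) (D.map_comp a φ).symm H h₁ =
      bc (D.map a) (D.map φ) (D.map_comp a φ).symm H h₂ := by
  classical
  obtain ⟨t, ht⟩ := exists_finite_cover (D.obj i₀)
  have hgen : ∀ U : (D.obj i₀).affineOpens, ∃ T : Finset Γ(G, U.1), Submodule.span Γ(D.obj i₀, U.1) (T : Set Γ(G, U.1)) = ⊤ := fun U =>
    haveI := QC.finite_sections U.2 (M := G) hG
    Module.Finite.fg_top
  choose T hT using hgen
  let S := t.sigma fun U => T U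
  let m : ∀ n : (Σ U : (D.obj i₀).affineOpens, Γ(G, U.1)),
      Γ((Scheme.Modules.pullback (D.map φ)).obj H, D.map φ ⁻¹ᵁ n.1.1) := fun n =>
    (famOfHom D H h₁ n.1.1).f n.1.1 le_rfl n.2 - (famOfHom D H h₂ n.1.1).f n.1.1 le_rfl n.2
  obtain ⟨k, a, hk⟩ := exists_forall_tr_eq_zero D c hc H φ S (fun n => n.1.1) (fun n => n.1.2) m fun n _ => by
    simp only [m]
    rw [map_sub, sub_eq_zero, famOfHom_apply, famOfHom_apply, ← bc_app_tr, ← bc_app_tr, heq]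
  refine ⟨k, a, hom_ext_pullback (D.map (a ≫ φ)) _ _ fun y O hy => ?_⟩
  obtain ⟨U, hU, hyU⟩ := ht y
  obtain ⟨b, hb, hyb⟩ := U.2.exists_basicOpen_le ⟨y, hy⟩ hyU
  refine ⟨(D.obj i₀).basicOpen b, hb, hyb, fun s => ?_⟩
  let F₁ := (famOfHom D H h₁ U.1).trans (D.map a) (D.map φ) (D.map_comp a φ).symm H
  let F₂ := (famOfHom D H h₂ U.1).trans (D.map a) (D.map φ) (D.map_comp a φ).symm H
  have hagree := Fam.eq_of_agree U.2 F₁ F₂ le_rfl le_rfl _ (hT U) (fun z hz => by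
    have := hk ⟨U, z⟩ (Finset.mem_sigma.2 ⟨hU, hz⟩)
    rw [map_sub, sub_eq_zero] at this
    exact this) _ ((D.obj i₀).basicOpen_le b) s
  have hval : ∀ h : (Scheme.Modules.pullback (D.map φ)).obj G ⟶ (Scheme.Modules.pullback (D.map φ)).obj H,
      (bc (D.map a) (D.map φ) (D.map_comp a φ).symm H h).app (D.map (a ≫ φ) ⁻¹ᵁ (D.obj i₀).basicOpen b)
        (pullSectLE (D.map (a ≫ φ)) G _ _ le_rfl s) =
      ((famOfHom D H h U.1).trans (D.map a) (D.map φ) (D.map_comp a φ).symm H).f _ ((D.obj i₀).basicOpen_le b) s := by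
    intro h
    rw [Fam.trans_apply, famOfHom_apply, ← bc_app_tr,
      tr_pullSectLE (D.map a) (D.map φ) (D.map_comp a φ).symm G le_rfl (preimage_le_of_map D φ a _) le_rfl]
  rw [hval, hval]
  exact hagree

/-- The pushforward of a pullback along a stage. -/
abbrev stageMod {k : I} (φ : k ⟶ i₀) : (D.obj i₀).Modules :=
  (Scheme.Modules.pushforward (D.map φ)).obj ((Scheme.Modules.pullback (D.map φ)).obj H)

include hc hH in
/-- The local step of descent of homomorphisms, for a linear map of sections. -/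
theorem exists_fam_stage_lin {G : (D.obj i₀).Modules} [hG : Coh.IsQCoh G] {U : (D.obj i₀).Opens}
    (hU : IsAffineOpen U) [Module.FinitePresentation Γ(D.obj i₀, U) Γ(G, U)]
    (f₀ : Γ(G, U) →ₗ[Γ(D.obj i₀, U)]
      Γ((Scheme.Modules.pushforward (c.π.app i₀)).obj ((Scheme.Modules.pullback (c.π.app i₀)).obj H), U)) :
    ∃ (k : I) (φ : k ⟶ i₀) (F : Fam G (stageMod D H φ) U),
      ∀ s, tr (c.π.app k) (D.map φ) (c.w φ) H (D.map φ ⁻¹ᵁ U) (c.π.app i₀ ⁻¹ᵁ U) (preimage_le_of_stage D c φ U)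
        (F.f U le_rfl s) = f₀ s := by
  classical
  obtain ⟨n, K, e, hK⟩ := Module.FinitePresentation.exists_fin Γ(D.obj i₀, U) Γ(G, U)
  obtain ⟨Tr, hTr⟩ := hK
  let π : (Fin n → Γ(D.obj i₀, U)) →ₗ[Γ(D.obj i₀, U)] Γ(G, U) := e.symm.toLinearMap ∘ₗ K.mkQ
  let P : ∀ (i : Fin n) (k : I), (k ⟶ i₀) → Prop := fun i k φ =>
    ∃ m' : Γ((Scheme.Modules.pullback (D.map φ)).obj H, D.map φ ⁻¹ᵁ U),
      tr (c.π.app k) (D.map φ) (c.w φ) H _ _ (preimage_le_of_stage D c φ U) m' = f₀ (π (Pi.single i 1))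
  obtain ⟨k, φ, hk⟩ := exists_later (Finset.univ : Finset (Fin n)) P
    (fun i k φ l b ⟨m', hm'⟩ => ⟨tr (D.map b) (D.map φ) (D.map_comp b φ).symm H _ _ (preimage_le_of_map D φ b U) m', by
      rw [tr_tr (D.map b) (D.map φ) (D.map_comp b φ).symm H (c.π.app l) (c.w _) (c.w b) (c.w φ) hU (hU.preimage _)
        le_rfl _ _ (preimage_le_of_stage D c φ U), hm']⟩)
    (fun i _ => exists_tr_eq D c hc H hU _)
  choose v hv using fun i => hk i (Finset.mem_univ i)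
  let ψ₀ : (Fin n → Γ(D.obj i₀, U)) →ₗ[Γ(D.obj i₀, U)] Γ(stageMod D H φ, U) :=
    (Pi.basisFun Γ(D.obj i₀, U) (Fin n)).constr Γ(D.obj i₀, U) v
  have hψ₀ : trLin (c.π.app k) (D.map φ) (c.w φ) H U (preimage_le_of_stage D c φ U) ∘ₗ ψ₀ = f₀ ∘ₗ π :=
    (Pi.basisFun Γ(D.obj i₀, U) (Fin n)).ext fun i => by
      rw [LinearMap.comp_apply, LinearMap.comp_apply, Module.Basis.constr_basis, Pi.basisFun_apply]
      exact hv i
  obtain ⟨l, b, hl⟩ := exists_forall_tr_eq_zero D c hc H φ Tr (fun _ => U) (fun _ => hU) (fun r => ψ₀ r)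
    fun r hr => by
      have h1 := LinearMap.congr_fun hψ₀ r
      have h2 : π r = 0 := by
        show e.symm (K.mkQ r) = 0
        rw [show K.mkQ r = 0 from (Submodule.Quotient.mk_eq_zero K).2 (hTr ▸ Submodule.subset_span hr), map_zero]
      rw [LinearMap.comp_apply, LinearMap.comp_apply, h2, map_zero] at h1
      exact h1
  let τ := trLin (D.map b) (D.map φ) (D.map_comp b φ).symm H U (preimage_le_of_map D φ b U)
  have hKker : K ≤ LinearMap.ker (τ ∘ₗ ψ₀) := by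
    rw [← hTr, Submodule.span_le]
    exact fun r hr => hl r hr
  obtain ⟨F, hF⟩ := exists_fam (N := stageMod D H (b ≫ φ)) hU (K.liftQ (τ ∘ₗ ψ₀) hKker ∘ₗ e.toLinearMap)
  refine ⟨l, b ≫ φ, F, fun s => ?_⟩
  obtain ⟨r, hr⟩ := K.mkQ_surjective (e s)
  have hs : s = π r := (e.eq_symm_apply).2 hr.symm
  have h3 : (K.liftQ (τ ∘ₗ ψ₀) hKker ∘ₗ e.toLinearMap) s = τ (ψ₀ r) := by
    rw [LinearMap.comp_apply, LinearEquiv.coe_coe, ← hr, Submodule.mkQ_apply, Submodule.liftQ_apply]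
    rfl
  rw [hF, h3, trLin_apply]
  rw [tr_tr (D.map b) (D.map φ) (D.map_comp b φ).symm H (c.π.app l) (c.w _) (c.w b) (c.w φ) hU (hU.preimage _)
    le_rfl _ _ (preimage_le_of_stage D c φ U), hs]
  exact LinearMap.congr_fun hψ₀ r

include hc hH in
/-- The local step of descent of homomorphisms. -/
theorem exists_fam_stage {G : (D.obj i₀).Modules} [hG : Coh.IsQCoh G] (hGfp : CohB1.IsFP G)
    (h : (Scheme.Modules.pullback (c.π.app i₀)).obj G ⟶ (Scheme.Modules.pullback (c.π.app i₀)).obj H)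
    {U : (D.obj i₀).Opens} (hU : IsAffineOpen U) :
    ∃ (k : I) (φ : k ⟶ i₀) (F : Fam G (stageMod D H φ) U),
      ∀ s, tr (c.π.app k) (D.map φ) (c.w φ) H (D.map φ ⁻¹ᵁ U) (c.π.app i₀ ⁻¹ᵁ U) (preimage_le_of_stage D c φ U)
        (F.f U le_rfl s) = (famOfHom D H h U).f U le_rfl s :=
  haveI : Module.FinitePresentation Γ(D.obj i₀, U) Γ(G, U) :=
    LocFree.finitePresentation_sections_of_isFP hG hGfp hU
  exists_fam_stage_lin D c hc H hU ((famOfHom D H h U).f U le_rfl)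

/-- Affine pieces of the overlaps of a finite affine cover. -/
theorem exists_pieces {X : Scheme.{u}} [QuasiSeparatedSpace X] (U V : X.affineOpens) :
    ∃ s : Finset X.affineOpens, (∀ P ∈ s, P.1 ≤ U.1 ⊓ V.1) ∧ ∀ x ∈ U.1 ⊓ V.1, ∃ P ∈ s, x ∈ P.1 := by
  have hcomp : IsCompact ((U.1 ⊓ V.1 : X.Opens) : Set X) :=
    QuasiSeparatedSpace.inter_isCompact _ _ U.1.2 U.2.isCompact V.1.2 V.2.isCompact
  obtain ⟨s, hs, hs'⟩ := (isCompact_and_isOpen_iff_finite_and_eq_biUnion_affineOpens).1 ⟨hcomp, (U.1 ⊓ V.1).2⟩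
  have hmem : ∀ x : X, x ∈ U.1 ⊓ V.1 ↔ ∃ P ∈ s, x ∈ P.1 := fun x => by
    rw [← SetLike.mem_coe, hs']
    simp
  exact ⟨hs.toFinset, fun P hP x hx => (hmem x).2 ⟨P, hs.mem_toFinset.1 hP, hx⟩,
    fun x hx => let ⟨P, hP, hxP⟩ := (hmem x).1 hx; ⟨P, hs.mem_toFinset.2 hP, hxP⟩⟩

include hc hH in
/-- The gluing step of descent of homomorphisms. -/
theorem exists_glue_stage [QuasiSeparatedSpace (D.obj i₀)] {G : (D.obj i₀).Modules} [hG : Coh.IsQCoh G]
    (hGft : CohB1.IsFT G)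
    (h : (Scheme.Modules.pullback (c.π.app i₀)).obj G ⟶ (Scheme.Modules.pullback (c.π.app i₀)).obj H)
    (t : Finset (D.obj i₀).affineOpens) (ht : ∀ x, ∃ U ∈ t, x ∈ U.1) {k : I} (φ : k ⟶ i₀)
    (F : ∀ U : t, Fam G (stageMod D H φ) U.1.1)
    (hL : ∀ (U : t) (V : (D.obj i₀).Opens) (hV : V ≤ U.1.1) (s : Γ(G, V)),
      ((F U).trans (c.π.app k) (D.map φ) (c.w φ) H).f V hV s = (famOfHom D H h U.1.1).f V hV s) :
    ∃ (l : I) (a : l ⟶ k) (φ₀ : G ⟶ stageMod D H (a ≫ φ)),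
      ∀ (U : t) (V : (D.obj i₀).Opens) (hV : V ≤ U.1.1) (s : Γ(G, V)),
        φ₀.app V s = ((F U).trans (D.map a) (D.map φ) (D.map_comp a φ).symm H).f V hV s := by
  classical
  choose pieces hle hcov using fun p : t × t => exists_pieces p.1.1 p.2.1
  have hgen : ∀ U : (D.obj i₀).affineOpens, ∃ T : Finset Γ(G, U.1),
      Submodule.span Γ(D.obj i₀, U.1) (T : Set Γ(G, U.1)) = ⊤ := fun U =>
    haveI := QC.finite_sections U.2 (M := G) hGft
    Module.Finite.fg_top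
  choose T hT using hgen
  let S : Finset (Σ p : t × t, Σ P : {P // P ∈ pieces p}, Γ(G, P.1.1)) :=
    Finset.univ.sigma fun p => Finset.univ.sigma fun P => T P.1
  let m : ∀ n : (Σ p : t × t, Σ P : {P // P ∈ pieces p}, Γ(G, P.1.1)),
      Γ((Scheme.Modules.pullback (D.map φ)).obj H, D.map φ ⁻¹ᵁ n.2.1.1.1) := fun n =>
    (F n.1.1).f _ ((hle _ _ n.2.1.2).trans inf_le_left) n.2.2 -
      (F n.1.2).f _ ((hle _ _ n.2.1.2).trans inf_le_right) n.2.2
  obtain ⟨l, a, hl⟩ := exists_forall_tr_eq_zero D c hc H φ S (fun n => n.2.1.1.1) (fun n => n.2.1.1.2) m fun n _ => by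
    simp only [m]
    rw [map_sub, sub_eq_zero]
    exact ((hL n.1.1 _ ((hle _ _ n.2.1.2).trans inf_le_left) n.2.2).trans
      (hL n.1.2 _ ((hle _ _ n.2.1.2).trans inf_le_right) n.2.2).symm)
  obtain ⟨φ₀, hφ₀⟩ := exists_hom_of_fam (M := G) (N := stageMod D H (a ≫ φ)) (fun U : t => U.1.1)
    (fun x => let ⟨U, hU, hx⟩ := ht x; ⟨⟨U, hU⟩, hx⟩)
    (fun U => (F U).trans (D.map a) (D.map φ) (D.map_comp a φ).symm H) (fun p q x hx => by
      obtain ⟨P, hP, hxP⟩ := hcov (p, q) x hx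
      refine ⟨P.1, P.2, (T P : Set _), (hle (p, q) P hP).trans inf_le_left, (hle (p, q) P hP).trans inf_le_right,
        hxP, hT P, fun z hz => ?_⟩
      have := hl ⟨(p, q), ⟨P, hP⟩, z⟩
        (Finset.mem_sigma.2 ⟨Finset.mem_univ _, Finset.mem_sigma.2 ⟨Finset.mem_univ _, hz⟩⟩)
      rw [map_sub, sub_eq_zero] at this
      exact this)
  exact ⟨l, a, φ₀, fun U V hV s => hφ₀ U V hV s⟩

include hc hH in
/-- Every homomorphism from a finitely presented module over the limit comes from a stage. -/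
theorem exists_bc_eq_hom [CompactSpace (D.obj i₀)] [QuasiSeparatedSpace (D.obj i₀)] {G : (D.obj i₀).Modules}
    [hG : Coh.IsQCoh G] (hGfp : CohB1.IsFP G)
    (h : (Scheme.Modules.pullback (c.π.app i₀)).obj G ⟶ (Scheme.Modules.pullback (c.π.app i₀)).obj H) :
    ∃ (j : I) (φ : j ⟶ i₀)
      (hj : (Scheme.Modules.pullback (D.map φ)).obj G ⟶ (Scheme.Modules.pullback (D.map φ)).obj H),
      bc (c.π.app j) (D.map φ) (c.w φ) H hj = h := by
  classical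
  obtain ⟨t, ht⟩ := exists_finite_cover (D.obj i₀)
  let P : ∀ (U : (D.obj i₀).affineOpens) (k : I), (k ⟶ i₀) → Prop := fun U k φ =>
    ∃ F : Fam G (stageMod D H φ) U.1, ∀ s, tr (c.π.app k) (D.map φ) (c.w φ) H (D.map φ ⁻¹ᵁ U.1) (c.π.app i₀ ⁻¹ᵁ U.1)
      (preimage_le_of_stage D c φ U.1) (F.f U.1 le_rfl s) = (famOfHom D H h U.1).f U.1 le_rfl s
  obtain ⟨k, φ, hk⟩ := exists_later t P
    (fun U k φ l b ⟨F, hF⟩ => ⟨F.trans (D.map b) (D.map φ) (D.map_comp b φ).symm H, fun s => by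
      rw [Fam.trans_apply, tr_tr (D.map b) (D.map φ) (D.map_comp b φ).symm H (c.π.app l) (c.w _) (c.w b) (c.w φ)
        U.2 (U.2.preimage _) le_rfl _ _ (preimage_le_of_stage D c φ U.1), hF]⟩)
    (fun U _ => exists_fam_stage D c hc H hGfp h U.2)
  choose F hF using fun U : t => hk U.1 U.2
  have hL : ∀ (U : t) (V : (D.obj i₀).Opens) (hV : V ≤ U.1.1) (s : Γ(G, V)),
      ((F U).trans (c.π.app k) (D.map φ) (c.w φ) H).f V hV s = (famOfHom D H h U.1.1).f V hV s := fun U V hV s =>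
    Fam.eq_of_agree U.1.2 _ (famOfHom D H h U.1.1) le_rfl le_rfl Set.univ Submodule.span_univ
      (fun s _ => hF U s) V hV s
  have hGft : CohB1.IsFT G := inferInstanceAs (SheafOfModules.IsFiniteType (R := (D.obj i₀).ringCatSheaf) G)
  obtain ⟨l, a, φ₀, hφ₀⟩ := exists_glue_stage D c hc H hGft h t ht φ F hL
  refine ⟨l, a ≫ φ, ((Scheme.Modules.pullbackPushforwardAdjunction (D.map (a ≫ φ))).homEquiv _ _).symm φ₀,
    hom_ext_pullback (c.π.app i₀) _ _ fun y O hy => ?_⟩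
  obtain ⟨U, hU, hyU⟩ := ht y
  obtain ⟨b, hb, hyb⟩ := U.2.exists_basicOpen_le ⟨y, hy⟩ hyU
  refine ⟨(D.obj i₀).basicOpen b, hb, hyb, fun s => ?_⟩
  have hbU := (D.obj i₀).basicOpen_le b
  have e₁ := preimage_le_of_stage D c (a ≫ φ) ((D.obj i₀).basicOpen b)
  have h1 : (famOfHom D H (((Scheme.Modules.pullbackPushforwardAdjunction (D.map (a ≫ φ))).homEquiv _ _).symm φ₀) U.1).f
      _ hbU s = φ₀.app _ s := by
    show (((Scheme.Modules.pullbackPushforwardAdjunction (D.map (a ≫ φ))).homEquiv _ _)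
      (((Scheme.Modules.pullbackPushforwardAdjunction (D.map (a ≫ φ))).homEquiv _ _).symm φ₀)).app _ s = _
    rw [Equiv.apply_symm_apply]
  rw [← tr_pullSectLE (c.π.app l) (D.map (a ≫ φ)) (c.w _) G le_rfl e₁ le_rfl, bc_app_tr,
    ← famOfHom_apply D H _ U.1 _ hbU, tr_pullSectLE (c.π.app l) (D.map (a ≫ φ)) (c.w _) G le_rfl e₁ le_rfl,
    ← famOfHom_apply D H h U.1 _ hbU, h1, hφ₀ ⟨U, hU⟩ _ hbU s, ← hL ⟨U, hU⟩ _ hbU s, Fam.trans_apply,
    Fam.trans_apply]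
  exact tr_tr (D.map a) (D.map φ) (D.map_comp a φ).symm H (c.π.app l) (c.w _) (c.w a) (c.w φ)
    (U.2.basicOpen b) ((U.2.basicOpen b).preimage _) le_rfl _ _ _ _

end Groth.Agent.ModDesc
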