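import Mathlib
import Groth.Agent.ModDesc.Descend
import Groth.Agent.QC.Closure

/-!
# Functoriality of the transport of morphisms
-/

universe u

open CategoryTheory CategoryTheory.Limits AlgebraicGeometry TopologicalSpace Opposite TensorProduct

set_option backward.isDefEq.respectTransparency false
set_option linter.style.haveILetI false

noncomputable section

namespace Groth.Agent.ModDesc

open Groth.Agent.QC

variable {T X Y : Scheme.{u}} (q : T ⟶ X) (g : X ⟶ Y) {r : T ⟶ Y} (w : q ≫ g = r) (H : Y.Modules)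

lemma bc_map {G : Y.Modules} (f : G ⟶ H) :
    bc q g w H ((Scheme.Modules.pullback g).map f) = (Scheme.Modules.pullback r).map f :=
  NatIso.naturality_1 (trIso q g w) f

lemma bc_comp {G K : Y.Modules} (h₁ : (Scheme.Modules.pullback g).obj G ⟶ (Scheme.Modules.pullback g).obj K)
    (h₂ : (Scheme.Modules.pullback g).obj K ⟶ (Scheme.Modules.pullback g).obj H) :
    bc q g w K h₁ ≫ bc q g w H h₂ = bc q g w H (h₁ ≫ h₂) := by
  let e := (trIso q g w).app K
  show (((trIso q g w).app G).inv ≫ (Scheme.Modules.pullback q).map h₁ ≫ e.hom) ≫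
      (e.inv ≫ (Scheme.Modules.pullback q).map h₂ ≫ ((trIso q g w).app H).hom) =
    ((trIso q g w).app G).inv ≫ (Scheme.Modules.pullback q).map (h₁ ≫ h₂) ≫ ((trIso q g w).app H).hom
  rw [Category.assoc, Category.assoc]
  refine congrArg (((trIso q g w).app G).inv ≫ ·) ?_
  refine (congrArg ((Scheme.Modules.pullback q).map h₁ ≫ ·) (e.hom_inv_id_assoc _)).trans ?_
  rw [← Category.assoc, ← Functor.map_comp]

lemma bc_id (G : Y.Modules) :
    bc q g w G (𝟙 ((Scheme.Modules.pullback g).obj G)) = 𝟙 ((Scheme.Modules.pullback r).obj G) := by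
  rw [← CategoryTheory.Functor.map_id, bc_map, CategoryTheory.Functor.map_id]

/-- A section of a quasi-coherent pullback over an affine open is determined by its transports. -/
lemma tr_pullSectLE_basic {G : Y.Modules} {U : Y.Opens} (b : Γ(Y, U)) (e : r ⁻¹ᵁ Y.basicOpen b ≤ q ⁻¹ᵁ (g ⁻¹ᵁ Y.basicOpen b))
    (s : Γ(G, Y.basicOpen b)) :
    tr q g w G _ _ e (pullSectLE g G (Y.basicOpen b) _ le_rfl s) = pullSectLE r G (Y.basicOpen b) _ le_rfl s :=
  tr_pullSectLE q g w G le_rfl e le_rfl s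

/-- Transitivity of the transport of morphisms. -/
lemma bc_bc {T' : Scheme.{u}} (q' : T' ⟶ T) {r' : T' ⟶ Y} (w' : q' ≫ r = r') {s : T' ⟶ X} (hs : q' ≫ q = s)
    (w'' : s ≫ g = r') [Coh.IsQCoh H] [IsAffineHom g] {G : Y.Modules}
    (h : (Scheme.Modules.pullback g).obj G ⟶ (Scheme.Modules.pullback g).obj H) :
    bc q' r w' H (bc q g w H h) = bc s g w'' H h := by
  refine hom_ext_pullback r' _ _ fun y O hy => ?_
  obtain ⟨A, hA, hyA, hAO⟩ := exists_isAffineOpen_mem_and_subset hy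
  refine ⟨A, hAO, hyA, fun t => ?_⟩
  have e₁ : r ⁻¹ᵁ A ≤ q ⁻¹ᵁ (g ⁻¹ᵁ A) := preimage_le_of_comp q g w A
  have e₂ : r' ⁻¹ᵁ A ≤ q' ⁻¹ᵁ (r ⁻¹ᵁ A) := preimage_le_of_comp q' r w' A
  have e₃ : r' ⁻¹ᵁ A ≤ s ⁻¹ᵁ (g ⁻¹ᵁ A) := preimage_le_of_comp s g w'' A
  calc _ = (bc q' r w' H (bc q g w H h)).app (r' ⁻¹ᵁ A)
        (tr q' r w' G _ _ e₂ (pullSectLE r G A _ le_rfl t)) := by rw [tr_pullSectLE q' r w' G le_rfl e₂ le_rfl]
    _ = tr q' r w' H _ _ e₂ ((bc q g w H h).app (r ⁻¹ᵁ A) (pullSectLE r G A _ le_rfl t)) := by rw [bc_app_tr]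
    _ = tr q' r w' H _ _ e₂ (tr q g w H _ _ e₁ (h.app (g ⁻¹ᵁ A) (pullSectLE g G A _ le_rfl t))) := by
        rw [← tr_pullSectLE q g w G le_rfl e₁ le_rfl, bc_app_tr]
    _ = tr s g w'' H _ _ e₃ (h.app (g ⁻¹ᵁ A) (pullSectLE g G A _ le_rfl t)) :=
        tr_tr q g w H q' w' hs w'' hA (hA.preimage g) le_rfl e₁ e₂ e₃ _
    _ = (bc s g w'' H h).app (r' ⁻¹ᵁ A) (tr s g w'' G _ _ e₃ (pullSectLE g G A _ le_rfl t)) := by rw [bc_app_tr]
    _ = _ := by rw [tr_pullSectLE s g w'' G le_rfl e₃ le_rfl]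

/-- Isomorphy of quasi-coherent modules is checked on an affine cover. -/
lemma isIso_of_affine_cover {M N : X.Modules} (hM : Coh.IsQCoh M) (hN : Coh.IsQCoh N) (φ : M ⟶ N) {ι : Type*}
    (U : ι → X.Opens) (hU : ∀ i, IsAffineOpen (U i)) (hcov : ∀ x, ∃ i, x ∈ U i)
    (h : ∀ i, Function.Bijective (φ.app (U i))) : IsIso φ :=
  isIso_of_restrict_cover (fun i => (hU i).fromSpec)
    (fun x => (hcov x).imp fun i hi => (hU i).range_fromSpec.superset hi) φ
    fun i => isIso_restrict_of_bijective (hU i) hM hN φ (h i)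

end Groth.Agent.ModDesc
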