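import Mathlib
import Groth.Agent.ModDesc.Func
import Groth.Agent.FittLib.StrictTransform2

/-!
# Descent of epimorphisms and isomorphisms of modules along limits
-/

universe u

open CategoryTheory CategoryTheory.Limits AlgebraicGeometry TopologicalSpace Opposite TensorProduct

set_option backward.isDefEq.respectTransparency false
set_option linter.style.haveILetI false
set_option linter.unusedSectionVars false

noncomputable section

namespace Groth.Agent.ModDesc

open Groth.Agent.QC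

variable {T X : Scheme.{u}}

lemma isFT_of_isFP {M : X.Modules} (h : CohB1.IsFP M) : CohB1.IsFT M :=
  haveI := h
  inferInstanceAs (SheafOfModules.IsFiniteType (R := X.ringCatSheaf) M)

/-- Pullback preserves finite type. -/
lemma isFT_pullback (q : T ⟶ X) {M : X.Modules} (hM : Coh.IsQCoh M) (h : CohB1.IsFT M) :
    CohB1.IsFT ((Scheme.Modules.pullback q).obj M) := by
  haveI : ((Scheme.Modules.pullback q).obj M).IsQuasicoherent := isQCoh_pullback q hM
  refine isFT_iff_exists_hasFinGen.2 fun x => ?_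
  obtain ⟨U, hU, V, hV, e, hx⟩ := exists_affine_pair q x
  haveI : M.IsQuasicoherent := hM
  haveI := finite_sections hU h
  letI : Algebra Γ(X, U) Γ(T, V) := (q.appLE U V e).hom.toAlgebra
  haveI : Coh.IsQCoh M := hM
  obtain ⟨Φ, -⟩ := exists_bijective_liftBaseChange q M hU hV e
  haveI := Module.Finite.equiv Φ
  exact ⟨V, hx, hasFinGen_of_finite hV⟩

/-- Pullback preserves finite presentation. -/
lemma isFP_pullback (q : T ⟶ X) {M : X.Modules} (hM : Coh.IsQCoh M) (h : CohB1.IsFP M) :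
    CohB1.IsFP ((Scheme.Modules.pullback q).obj M) := by
  haveI : ((Scheme.Modules.pullback q).obj M).IsQuasicoherent := isQCoh_pullback q hM
  refine isFP_iff_exists_hasFinPres.2 fun x => ?_
  obtain ⟨U, hU, V, hV, e, hx⟩ := exists_affine_pair q x
  haveI := FittLib.finitePresentation_pullback q hM h hU hV e
  exact ⟨V, hx, hasFinPres_of_finitePresentation hV⟩

/-- Surjectivity on an affine cover implies being an epimorphism. -/
lemma epi_of_affine_cover {M N : X.Modules} [Coh.IsQCoh N] (f : M ⟶ N) {ι : Type*} (U : ι → X.Opens)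
    (hU : ∀ i, IsAffineOpen (U i)) (hcov : ∀ x, ∃ i, x ∈ U i) (h : ∀ i, Function.Surjective (f.app (U i))) :
    Epi f := ⟨fun {P} a b hab => Scheme.Modules.hom_ext _ _ fun V => by
  ext s
  refine section_eq_of_locally fun x hx => ?_
  obtain ⟨i, hi⟩ := hcov x
  refine ⟨V ⊓ U i, inf_le_left, ⟨hx, hi⟩, ?_⟩
  refine (app_res a (inf_le_left : V ⊓ U i ≤ V) s).trans (Eq.trans ?_ (app_res b (inf_le_left : V ⊓ U i ≤ V) s).symm)
  exact Fam.eq_of_agree (hU i) (Fam.ofHom a (U i)) (Fam.ofHom b (U i)) le_rfl le_rfl Set.univ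
    Submodule.span_univ (fun n _ => by
      obtain ⟨m, rfl⟩ := h i n
      exact congrArg (fun φ : M ⟶ P => φ.app (U i) m) hab) _ inf_le_right _⟩

/-- The pullback of a morphism is surjective over an affine open if pulled back generators are hit. -/
lemma app_surjective_of_generators (q : T ⟶ X) {M N : X.Modules} [Coh.IsQCoh N] (f : M ⟶ N) {U : X.Opens}
    (hU : IsAffineOpen U) {V : T.Opens} (hV : IsAffineOpen V) (e : V ≤ q ⁻¹ᵁ U) (S : Set Γ(N, U))
    (hS : Submodule.span Γ(X, U) S = ⊤)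
    (h : ∀ n ∈ S, ∃ z, ((Scheme.Modules.pullback q).map f).app V z = pullSectLE q N U V e n) :
    Function.Surjective (((Scheme.Modules.pullback q).map f).app V) := by
  let F := ((Scheme.Modules.pullback q).map f)
  have hlin : ∀ n, ∃ z, F.app V z = pullSectLE q N U V e n := fun n => by
    have hn : n ∈ Submodule.span Γ(X, U) S := hS ▸ Submodule.mem_top
    induction hn using Submodule.span_induction with
    | mem n hn => exact h n hn
    | zero => exact ⟨0, by rw [map_zero, map_zero]⟩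
    | add a b _ _ ha hb =>
      obtain ⟨za, hza⟩ := ha; obtain ⟨zb, hzb⟩ := hb
      exact ⟨za + zb, by rw [map_add, map_add, hza, hzb]⟩
    | smul r a _ ha =>
      obtain ⟨za, hza⟩ := ha
      exact ⟨(q.appLE U V e).hom r • za, by rw [Scheme.Modules.Hom.app_smul, pullSectLE_smul, hza]⟩
  letI : Algebra Γ(X, U) Γ(T, V) := (q.appLE U V e).hom.toAlgebra
  obtain ⟨Φ, hΦ⟩ := exists_bijective_liftBaseChange q N hU hV e
  intro y
  obtain ⟨z, rfl⟩ := Φ.surjective y
  induction z using TensorProduct.induction_on with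
  | zero => exact ⟨0, by rw [map_zero, map_zero]⟩
  | tmul a n =>
    obtain ⟨z, hz⟩ := hlin n
    refine ⟨a • z, ?_⟩
    rw [Scheme.Modules.Hom.app_smul, hz, ← hΦ, ← map_smul, smul_tmul', smul_eq_mul, mul_one]
  | add a b ha hb =>
    obtain ⟨za, hza⟩ := ha; obtain ⟨zb, hzb⟩ := hb
    exact ⟨za + zb, by rw [map_add, map_add, hza, hzb]⟩

/-- The pullback of a surjection is bijective over an affine open if its kernel is killed. -/
lemma app_bijective_of_killed (q : T ⟶ X) {M N : X.Modules} [Coh.IsQCoh M] [Coh.IsQCoh N] (f : M ⟶ N)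
    {U : X.Opens} (hU : IsAffineOpen U) {V : T.Opens} (hV : IsAffineOpen V) (e : V ≤ q ⁻¹ᵁ U)
    (hsurj : Function.Surjective (f.app U)) (hker : ∀ s, f.app U s = 0 → pullSectLE q M U V e s = 0) :
    Function.Bijective (((Scheme.Modules.pullback q).map f).app V) := by
  let F := ((Scheme.Modules.pullback q).map f)
  refine ⟨?_, app_surjective_of_generators q f hU hV e Set.univ Submodule.span_univ fun n _ => by
    obtain ⟨m, rfl⟩ := hsurj n
    exact ⟨pullSectLE q M U V e m, app_pullSectLE q f U V e m⟩⟩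
  letI : Algebra Γ(X, U) Γ(T, V) := (q.appLE U V e).hom.toAlgebra
  obtain ⟨ΦM, hΦM⟩ := exists_bijective_liftBaseChange q M hU hV e
  obtain ⟨ΦN, hΦN⟩ := exists_bijective_liftBaseChange q N hU hV e
  let L : Γ(M, U) →ₗ[Γ(X, U)] Γ(N, U) :=
    { toFun := f.app U, map_add' := map_add _, map_smul' := Scheme.Modules.Hom.app_smul _ }
  have hsq : ∀ z, F.app V (ΦM z) = ΦN (L.lTensor Γ(T, V) z) := fun z => by
    induction z using TensorProduct.induction_on with
    | zero => simp
    | tmul a m =>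
      rw [LinearMap.lTensor_tmul, show a ⊗ₜ[Γ(X, U)] m = a • ((1 : Γ(T, V)) ⊗ₜ[Γ(X, U)] m) by
        rw [smul_tmul', smul_eq_mul, mul_one], map_smul, hΦM,
        show a ⊗ₜ[Γ(X, U)] L m = a • ((1 : Γ(T, V)) ⊗ₜ[Γ(X, U)] L m) by
        rw [smul_tmul', smul_eq_mul, mul_one]]
      refine ((Scheme.Modules.Hom.app_smul F a _).trans ?_).trans (ΦN.map_smul a _).symm
      rw [hΦN]
      exact congrArg (a • ·) (app_pullSectLE q f U V e m)
    | add a b ha hb => simp only [map_add, ha, hb]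
  have hzero : (LinearMap.ker L).subtype.lTensor Γ(T, V) = 0 := TensorProduct.ext' fun a k => by
    rw [LinearMap.lTensor_tmul, LinearMap.zero_apply, Submodule.subtype_apply]
    apply ΦM.injective
    rw [show a ⊗ₜ[Γ(X, U)] (k : Γ(M, U)) = a • ((1 : Γ(T, V)) ⊗ₜ[Γ(X, U)] (k : Γ(M, U))) by
      rw [smul_tmul', smul_eq_mul, mul_one]]
    rw [map_smul, map_zero]
    refine (congrArg (a • ·) ((hΦM _).trans (hker _ k.2))).trans (smul_zero _)
  refine (injective_iff_map_eq_zero (F.app V).hom).2 fun y hy => ?_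
  obtain ⟨z, rfl⟩ := ΦM.surjective y
  have hz : L.lTensor Γ(T, V) z = 0 := ΦN.injective (((hsq z).symm.trans hy).trans (map_zero ΦN).symm)
  obtain ⟨w, rfl⟩ := (lTensor_exact Γ(T, V) (LinearMap.exact_subtype_ker_map L) hsurj z).1 hz
  rw [hzero, LinearMap.zero_apply, map_zero]

variable {I : Type u} [SmallCategory I] [IsCofiltered I] (D : I ⥤ Scheme.{u}) (c : Cone D) (hc : IsLimit c)
  [∀ {i j : I} (f : i ⟶ j), IsAffineHom (D.map f)] {i₀ : I}

lemma compactSpace_stage [CompactSpace (D.obj i₀)] {j : I} (φ : j ⟶ i₀) : CompactSpace (D.obj j) :=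
  QuasiCompact.compactSpace_of_compactSpace (D.map φ)

include hc in
/-- An epimorphism on the limit is an epimorphism at a stage. -/
theorem exists_epi_stage [CompactSpace (D.obj i₀)] {F G : (D.obj i₀).Modules} [Coh.IsQCoh F] [Coh.IsQCoh G]
    (hG : CohB1.IsFT G) (f : F ⟶ G) [hf : Epi ((Scheme.Modules.pullback (c.π.app i₀)).map f)] :
    ∃ (j : I) (φ : j ⟶ i₀), Epi ((Scheme.Modules.pullback (D.map φ)).map f) := by
  classical
  obtain ⟨t, ht⟩ := exists_finite_cover (D.obj i₀)
  have hgen : ∀ U : (D.obj i₀).affineOpens, ∃ S : Finset Γ(G, U.1),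
      Submodule.span Γ(D.obj i₀, U.1) (S : Set Γ(G, U.1)) = ⊤ := fun U =>
    haveI := QC.finite_sections U.2 (M := G) hG
    Module.Finite.fg_top
  choose S hS using hgen
  let P : ∀ (n : Σ U : (D.obj i₀).affineOpens, Γ(G, U.1)) (k : I), (k ⟶ i₀) → Prop := fun n k φ =>
    ∃ z, ((Scheme.Modules.pullback (D.map φ)).map f).app (D.map φ ⁻¹ᵁ n.1.1) z =
      pullSectLE (D.map φ) G n.1.1 _ le_rfl n.2
  obtain ⟨k, φ, hk⟩ := exists_later (t.sigma fun U => S U) P
    (fun n k φ l b ⟨z, hz⟩ => ⟨tr (D.map b) (D.map φ) (D.map_comp b φ).symm F _ _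
        (preimage_le_of_map D φ b n.1.1) z, by
      rw [← bc_map (D.map b) (D.map φ) (D.map_comp b φ).symm G f, bc_app_tr, hz, tr_pullSectLE]⟩)
    fun n _ => by
      have hW := isAffineOpen_preimage_π D c hc n.1.2
      obtain ⟨w, hw⟩ := app_surjective_of_epi hW (isQCoh_pullback (c.π.app i₀) inferInstance)
        (isQCoh_pullback (c.π.app i₀) inferInstance) ((Scheme.Modules.pullback (c.π.app i₀)).map f)
        (pullSectLE (c.π.app i₀) G n.1.1 (c.π.app i₀ ⁻¹ᵁ n.1.1) le_rfl n.2)
      obtain ⟨j, φ, z, rfl⟩ := exists_tr_eq D c hc F n.1.2 w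
      rw [← bc_map (c.π.app j) (D.map φ) (c.w φ) G f, bc_app_tr] at hw
      let m : ∀ _ : Unit, Γ((Scheme.Modules.pullback (D.map φ)).obj G, D.map φ ⁻¹ᵁ n.1.1) := fun _ =>
        ((Scheme.Modules.pullback (D.map φ)).map f).app (D.map φ ⁻¹ᵁ n.1.1) z -
          pullSectLE (D.map φ) G n.1.1 _ le_rfl n.2
      obtain ⟨k, a, hk⟩ := exists_forall_tr_eq_zero D c hc G φ {()} (fun _ => n.1.1) (fun _ => n.1.2) m
        fun _ _ => by simp only [m]; rw [map_sub, hw, tr_pullSectLE (e' := le_rfl), sub_self]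
      refine ⟨k, a ≫ φ, tr (D.map a) (D.map φ) (D.map_comp a φ).symm F _ _
        (preimage_le_of_map D φ a n.1.1) z, ?_⟩
      have h0 := hk () (Finset.mem_singleton_self _)
      simp only [m] at h0
      rw [map_sub, sub_eq_zero, tr_pullSectLE (e' := le_rfl)] at h0
      rw [← bc_map (D.map a) (D.map φ) (D.map_comp a φ).symm G f, bc_app_tr, h0]
  haveI : Coh.IsQCoh ((Scheme.Modules.pullback (D.map φ)).obj G) := isQCoh_pullback _ inferInstance
  refine ⟨k, φ, epi_of_affine_cover _ (fun U : t => D.map φ ⁻¹ᵁ U.1.1) (fun U => U.1.2.preimage _)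
    (fun x => let ⟨U, hU, hx⟩ := ht (D.map φ x); ⟨⟨U, hU⟩, hx⟩) fun U => ?_⟩
  exact app_surjective_of_generators (D.map φ) f U.1.2 (U.1.2.preimage _) le_rfl _ (hS U.1)
    fun n hn => hk ⟨U.1, n⟩ (Finset.mem_sigma.2 ⟨U.2, hn⟩)

include hc in
/-- An epimorphism from a finite type onto a finitely presented module which is an isomorphism on the
limit is an isomorphism at a stage. -/
theorem exists_isIso_stage_of_epi [CompactSpace (D.obj i₀)] {F G : (D.obj i₀).Modules} [Coh.IsQCoh F]
    [Coh.IsQCoh G] (hF : CohB1.IsFT F) (hG : CohB1.IsFP G) (f : F ⟶ G) [Epi f]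
    [hf : IsIso ((Scheme.Modules.pullback (c.π.app i₀)).map f)] :
    ∃ (j : I) (φ : j ⟶ i₀), IsIso ((Scheme.Modules.pullback (D.map φ)).map f) := by
  classical
  obtain ⟨t, ht⟩ := exists_finite_cover (D.obj i₀)
  let L : ∀ U : (D.obj i₀).affineOpens, Γ(F, U.1) →ₗ[Γ(D.obj i₀, U.1)] Γ(G, U.1) := fun U =>
    { toFun := f.app U.1, map_add' := map_add _, map_smul' := Scheme.Modules.Hom.app_smul _ }
  have hsurj : ∀ U : (D.obj i₀).affineOpens, Function.Surjective (f.app U.1) := fun U =>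
    app_surjective_of_epi U.2 inferInstance inferInstance f
  have hgen : ∀ U : (D.obj i₀).affineOpens, ∃ S : Finset Γ(F, U.1),
      Submodule.span Γ(D.obj i₀, U.1) (S : Set Γ(F, U.1)) = LinearMap.ker (L U) := fun U => by
    haveI := QC.finite_sections U.2 (M := F) hF
    haveI := LocFree.finitePresentation_sections_of_isFP (M := G) inferInstance hG U.2
    exact Module.FinitePresentation.fg_ker (L U) (hsurj U)
  choose S hS using hgen
  let P : ∀ (n : Σ U : (D.obj i₀).affineOpens, Γ(F, U.1)) (k : I), (k ⟶ i₀) → Prop := fun n k φ =>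
    pullSectLE (D.map φ) F n.1.1 (D.map φ ⁻¹ᵁ n.1.1) le_rfl n.2 = 0
  obtain ⟨k, φ, hk⟩ := exists_later (t.sigma fun U => S U) P
    (fun n k φ l b hz => by
      have := congrArg (tr (D.map b) (D.map φ) (D.map_comp b φ).symm F _ _ (preimage_le_of_map D φ b n.1.1)) hz
      rw [map_zero, tr_pullSectLE (e' := le_rfl)] at this
      exact this)
    fun n hn => by
      have hker : f.app n.1.1 n.2 = 0 := by
        have := Submodule.subset_span (R := Γ(D.obj i₀, n.1.1)) (Finset.mem_sigma.1 hn).2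
        rw [hS] at this
        exact this
      have h0 : pullSectLE (c.π.app i₀) F n.1.1 (c.π.app i₀ ⁻¹ᵁ n.1.1) le_rfl n.2 = 0 := by
        refine (ZCl.bijective_of_isIso ((Scheme.Modules.pullback (c.π.app i₀)).map f) _).1 ?_
        rw [app_pullSectLE, hker, map_zero, map_zero]
      obtain ⟨k, a, hk⟩ := exists_forall_tr_eq_zero D c hc F (𝟙 i₀) {()} (fun _ => n.1.1) (fun _ => n.1.2)
        (fun _ => pullSectLE (D.map (𝟙 i₀)) F n.1.1 _ le_rfl n.2)
        fun _ _ => by rw [tr_pullSectLE (e' := le_rfl), h0]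
      refine ⟨k, a ≫ 𝟙 i₀, ?_⟩
      have := hk () (Finset.mem_singleton_self _)
      rw [tr_pullSectLE (e' := le_rfl)] at this
      exact this
  refine ⟨k, φ, isIso_of_affine_cover (isQCoh_pullback _ inferInstance) (isQCoh_pullback _ inferInstance) _
    (fun U : t => D.map φ ⁻¹ᵁ U.1.1) (fun U => U.1.2.preimage _)
    (fun x => let ⟨U, hU, hx⟩ := ht (D.map φ x); ⟨⟨U, hU⟩, hx⟩) fun U => ?_⟩
  refine app_bijective_of_killed (D.map φ) f U.1.2 (U.1.2.preimage _) le_rfl (hsurj U.1) fun s hs => ?_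
  have hs' : s ∈ Submodule.span Γ(D.obj i₀, U.1.1) (S U.1 : Set Γ(F, U.1.1)) := by rw [hS]; exact hs
  clear hs
  induction hs' using Submodule.span_induction with
  | mem n hn => exact hk ⟨U.1, n⟩ (Finset.mem_sigma.2 ⟨U.2, hn⟩)
  | zero => rw [map_zero]
  | add a b _ _ ha hb => rw [map_add, ha, hb, add_zero]
  | smul r a _ ha => rw [pullSectLE_smul, ha, smul_zero]

lemma isIso_map_of_trans {T : Scheme.{u}} {Y : Scheme.{u}} (q : T ⟶ X) (g : X ⟶ Y) {r : T ⟶ Y} (w : q ≫ g = r)
    {F G : Y.Modules} (f : F ⟶ G) :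
    IsIso ((Scheme.Modules.pullback r).map f) ↔
      IsIso ((Scheme.Modules.pullback q).map ((Scheme.Modules.pullback g).map f)) :=
  (NatIso.isIso_map_iff (trIso q g w) f).symm

include hc in
/-- An isomorphism on the limit is an isomorphism at a stage. -/
theorem exists_isIso_stage [CompactSpace (D.obj i₀)] {F G : (D.obj i₀).Modules} [Coh.IsQCoh F]
    [Coh.IsQCoh G] (hF : CohB1.IsFT F) (hG : CohB1.IsFP G) (f : F ⟶ G)
    [hf : IsIso ((Scheme.Modules.pullback (c.π.app i₀)).map f)] :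
    ∃ (j : I) (φ : j ⟶ i₀), IsIso ((Scheme.Modules.pullback (D.map φ)).map f) := by
  obtain ⟨j, φ, hepi⟩ := exists_epi_stage D c hc (isFT_of_isFP hG) f
  haveI := compactSpace_stage D φ
  haveI : Coh.IsQCoh ((Scheme.Modules.pullback (D.map φ)).obj F) := isQCoh_pullback _ inferInstance
  haveI : Coh.IsQCoh ((Scheme.Modules.pullback (D.map φ)).obj G) := isQCoh_pullback _ inferInstance
  haveI := (isIso_map_of_trans (c.π.app j) (D.map φ) (c.w φ) f).1 hf
  obtain ⟨k, a, hk⟩ := exists_isIso_stage_of_epi D c hc (isFT_pullback _ inferInstance hF)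
    (isFP_pullback _ inferInstance hG) ((Scheme.Modules.pullback (D.map φ)).map f)
  exact ⟨k, a ≫ φ, (isIso_map_of_trans (D.map a) (D.map φ) (D.map_comp a φ).symm f).2 hk⟩

end Groth.Agent.ModDesc
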