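import Mathlib
import Groth.Agent.ModDesc.Iso

/-!
# Operations on families of linear maps of sections
-/

universe u

open CategoryTheory CategoryTheory.Limits AlgebraicGeometry TopologicalSpace Opposite TensorProduct

set_option backward.isDefEq.respectTransparency false
set_option linter.style.haveILetI false
set_option linter.unusedSectionVars false

noncomputable section

namespace Groth.Agent.ModDesc

open Groth.Agent.QC

variable {X T : Scheme.{u}} {M N K : X.Modules} {U V : X.Opens}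

/-- Restriction of a family. -/
def Fam.mono (F : Fam M N U) (h : V ≤ U) : Fam M N V where
  f W hW := F.f W (hW.trans h)
  nat W' W hW' hW s := F.nat W' W hW' (hW.trans h) s

/-- Composition of families. -/
def Fam.comp (F : Fam M N U) (G : Fam N K U) : Fam M K U where
  f W hW := G.f W hW ∘ₗ F.f W hW
  nat W' W h hW s := by
    show res K h (G.f W hW (F.f W hW s)) = G.f W' _ (F.f W' _ (res M h s))
    rw [G.nat, F.nat]

lemma Fam.comp_apply (F : Fam M N U) (G : Fam N K U) (W : X.Opens) (hW : W ≤ U) (s : Γ(M, W)) :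
    (F.comp G).f W hW s = G.f W hW (F.f W hW s) := rfl

/-- Bijectivity is local. -/
lemma Fam.bijective_of_local (F : Fam M N U)
    (h : ∀ x ∈ U, ∃ W : X.Opens, x ∈ W ∧ ∃ hW : W ≤ U, ∀ W' (hW' : W' ≤ W),
      Function.Bijective (F.f W' (hW'.trans hW))) (V : X.Opens) (hV : V ≤ U) :
    Function.Bijective (F.f V hV) := by
  choose W hxW hWU hbij using fun x : V => h x.1 (hV x.2)
  refine ⟨fun a b hab => section_eq_of_locally fun x hx => ⟨V ⊓ W ⟨x, hx⟩, inf_le_left, ⟨hx, hxW _⟩, ?_⟩,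
    fun t => ?_⟩
  · apply (hbij ⟨x, hx⟩ (V ⊓ W ⟨x, hx⟩) inf_le_right).1
    rw [← F.nat _ _ inf_le_left hV, ← F.nat _ _ inf_le_left hV, hab]
  · choose s hs using fun x : V => (hbij x (V ⊓ W x) inf_le_right).2 (res N inf_le_left t)
    obtain ⟨S, hS⟩ := ZCl.glue M (fun x : V => V ⊓ W x) (fun x => inf_le_left)
      (fun x hx => ⟨⟨x, hx⟩, hx, hxW _⟩) s fun x y => by
        apply (hbij x ((V ⊓ W x) ⊓ (V ⊓ W y)) (inf_le_left.trans inf_le_right)).1
        change F.f _ _ (res M _ (s x)) = F.f _ _ (res M _ (s y))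
        rw [← F.nat _ (V ⊓ W x) inf_le_left (inf_le_left.trans hV),
          ← F.nat _ (V ⊓ W y) inf_le_right (inf_le_left.trans hV), hs, hs, res_res, res_res]
    refine ⟨S, section_eq_of_locally fun x hx => ⟨V ⊓ W ⟨x, hx⟩, inf_le_left, ⟨hx, hxW _⟩, ?_⟩⟩
    rw [F.nat, show res M inf_le_left S = s ⟨x, hx⟩ from hS ⟨x, hx⟩, hs]

/-- A linear bijection on an affine open extends to a bijective family. -/
lemma exists_bijective_fam [Coh.IsQCoh M] [Coh.IsQCoh N] (hU : IsAffineOpen U)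
    (e : Γ(M, U) ≃ₗ[Γ(X, U)] Γ(N, U)) :
    ∃ F : Fam M N U, (∀ s, F.f U le_rfl s = e s) ∧ ∀ V hV, Function.Bijective (F.f V hV) := by
  obtain ⟨F, hF⟩ := exists_fam (N := N) hU e.toLinearMap
  obtain ⟨G, hG⟩ := exists_fam (N := M) hU e.symm.toLinearMap
  refine ⟨F, hF, fun V hV => Function.bijective_iff_has_inverse.2 ⟨G.f V hV, fun s => ?_, fun s => ?_⟩⟩
  · exact Fam.eq_of_agree hU (F.comp G) (Fam.ofHom (𝟙 M) U) le_rfl le_rfl Set.univ Submodule.span_univ
      (fun z _ => by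
        show G.f U _ (F.f U _ z) = z
        rw [hF, hG]
        exact e.symm_apply_apply z) V hV s
  · exact Fam.eq_of_agree hU (G.comp F) (Fam.ofHom (𝟙 N) U) le_rfl le_rfl Set.univ Submodule.span_univ
      (fun z _ => by
        show F.f U _ (G.f U _ z) = z
        rw [hG, hF]
        exact e.apply_symm_apply z) V hV s

/-- Families agreeing on generators over affine pieces are equal. -/
lemma Fam.eq_of_pieces [Coh.IsQCoh M] (F G : Fam M N U)
    (h : ∀ x ∈ U, ∃ (P : X.Opens) (_ : IsAffineOpen P) (hP : P ≤ U) (S : Set Γ(M, P)),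
      x ∈ P ∧ Submodule.span Γ(X, P) S = ⊤ ∧ ∀ s ∈ S, F.f P hP s = G.f P hP s)
    (V : X.Opens) (hV : V ≤ U) (s : Γ(M, V)) : F.f V hV s = G.f V hV s := by
  refine section_eq_of_locally fun x hx => ?_
  obtain ⟨P, hP, hPU, S, hxP, hS, hagr⟩ := h x (hV hx)
  refine ⟨V ⊓ P, inf_le_left, ⟨hx, hxP⟩, ?_⟩
  rw [F.nat, G.nat]
  exact Fam.eq_of_agree hP F G hPU hPU S hS hagr _ inf_le_right _

/-- Glue families on an open cover of an open. -/
theorem exists_fam_of_local [Coh.IsQCoh M] {Q : X.Opens} {ι : Type u} (W : ι → X.Opens) (hW : ∀ i, W i ≤ Q)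
    (hcov : ∀ x ∈ Q, ∃ i, x ∈ W i) (F : ∀ i, Fam M N (W i))
    (hagree : ∀ i j x, x ∈ W i ⊓ W j → ∃ (P : X.Opens) (_ : IsAffineOpen P) (S : Set Γ(M, P)) (hi : P ≤ W i)
      (hj : P ≤ W j), x ∈ P ∧ Submodule.span Γ(X, P) S = ⊤ ∧ ∀ s ∈ S, (F i).f P hi s = (F j).f P hj s) :
    ∃ G : Fam M N Q, ∀ i V (hV : V ≤ W i) (s : Γ(M, V)), G.f V (hV.trans (hW i)) s = (F i).f V hV s := by
  have hag : ∀ i j (V : X.Opens) (hi : V ≤ W i) (hj : V ≤ W j) (s : Γ(M, V)),
      (F i).f V hi s = (F j).f V hj s := fun i j V hi hj s =>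
    Fam.eq_of_pieces ((F i).mono (inf_le_left : W i ⊓ W j ≤ W i)) ((F j).mono inf_le_right) (fun x hx => by
      obtain ⟨P, hP, S, hiP, hjP, hxP, hS, hagr⟩ := hagree i j x hx
      exact ⟨P, hP, le_inf hiP hjP, S, hxP, hS, hagr⟩) V (le_inf hi hj) s
  have hcov' : ∀ (O : X.Opens), O ≤ Q → ∀ x ∈ O, ∃ i, x ∈ O ⊓ W i := fun O hO x hx =>
    (hcov x (hO hx)).imp fun i hi => ⟨hx, hi⟩
  have hex : ∀ (O : X.Opens) (hO : O ≤ Q) (s : Γ(M, O)), ∃ t : Γ(N, O), ∀ i,
      res N (inf_le_left : O ⊓ W i ≤ O) t = (F i).f (O ⊓ W i) inf_le_right (res M inf_le_left s) := by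
    intro O hO s
    refine ZCl.glue N (fun i => O ⊓ W i) (fun i => inf_le_left) (hcov' O hO)
      (fun i => (F i).f _ inf_le_right (res M inf_le_left s)) fun i j => ?_
    change res N _ _ = res N _ _
    rw [(F i).nat, (F j).nat, res_res, res_res]
    exact hag i j _ _ _ _
  have huniq : ∀ (O : X.Opens), O ≤ Q → ∀ (t t' : Γ(N, O)),
      (∀ i, res N (inf_le_left : O ⊓ W i ≤ O) t = res N inf_le_left t') → t = t' := fun O hO t t' h =>
    ZCl.ext_cover N (fun i => O ⊓ W i) (fun i => inf_le_left) (hcov' O hO) t t' h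
  choose G hG using hex
  refine ⟨{
    f := fun O hO =>
      { toFun := G O hO
        map_add' := fun s t => huniq O hO _ _ fun i => by rw [hG, map_add, map_add, map_add, hG, hG]
        map_smul' := fun a s => huniq O hO _ _ fun i => by
          rw [RingHom.id_apply, hG, res_smul, res_smul, hG, map_smul] }
    nat := fun O' O h hO s => huniq _ (h.trans hO) _ _ fun i => by
      show res N _ (res N h (G O hO s)) = res N _ (G O' (h.trans hO) (res M h s))
      rw [hG, res_res, res_res,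
        ← res_res N (show O' ⊓ W i ≤ O ⊓ W i from inf_le_inf_right _ h) (inf_le_left : O ⊓ W i ≤ O), hG,
        (F i).nat, res_res] }, fun i V hV s => ?_⟩
  show G V (hV.trans (hW i)) s = (F i).f V hV s
  refine huniq _ (hV.trans (hW i)) _ _ fun j => ?_
  rw [hG, (F i).nat]
  exact hag j i _ _ _ _

/-- Pulled back sections span. -/
lemma span_pullSectLE (q : T ⟶ X) (H : X.Modules) [Coh.IsQCoh H] (hU : IsAffineOpen U) {W : T.Opens}
    (hW : IsAffineOpen W) (e : W ≤ q ⁻¹ᵁ U) {S : Set Γ(H, U)} (hS : Submodule.span Γ(X, U) S = ⊤) :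
    Submodule.span Γ(T, W) ((pullSectLE q H U W e) '' S) = ⊤ := by
  letI : Algebra Γ(X, U) Γ(T, W) := (q.appLE U W e).hom.toAlgebra
  obtain ⟨Φ, hΦ⟩ := exists_bijective_liftBaseChange q H hU hW e
  let A := Submodule.span Γ(T, W) ((pullSectLE q H U W e) '' S)
  have h1 : ∀ s : Γ(H, U), pullSectLE q H U W e s ∈ A := fun s => by
    have hs : s ∈ Submodule.span Γ(X, U) S := hS ▸ Submodule.mem_top
    induction hs using Submodule.span_induction with
    | mem y hy => exact Submodule.subset_span ⟨y, hy, rfl⟩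
    | zero => rw [map_zero]; exact zero_mem _
    | add a b _ _ ha hb => rw [map_add]; exact add_mem ha hb
    | smul r a _ ha => rw [pullSectLE_smul]; exact A.smul_mem _ ha
  refine eq_top_iff.2 fun y hy => ?_
  clear hy
  obtain ⟨z, rfl⟩ := Φ.surjective y
  induction z using TensorProduct.induction_on with
  | zero => rw [map_zero]; exact zero_mem _
  | tmul a s =>
    rw [show a ⊗ₜ[Γ(X, U)] s = a • ((1 : Γ(T, W)) ⊗ₜ[Γ(X, U)] s) by rw [smul_tmul', smul_eq_mul, mul_one],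
      map_smul, hΦ]
    exact A.smul_mem _ (h1 s)
  | add a b ha hb => rw [map_add]; exact add_mem ha hb

/-- The pullback of a family of maps along an affine morphism. -/
theorem exists_fam_pull (q : T ⟶ X) [IsAffineHom q] [Coh.IsQCoh M] [Coh.IsQCoh N] {Q : X.Opens}
    (F : Fam M N Q) :
    ∃ G : Fam ((Scheme.Modules.pullback q).obj M) ((Scheme.Modules.pullback q).obj N) (q ⁻¹ᵁ Q),
      ∀ (V : X.Opens) (hV : V ≤ Q) (W : T.Opens) (e : W ≤ q ⁻¹ᵁ V) (s : Γ(M, V)),
        G.f W (e.trans (q.preimage_mono hV)) (pullSectLE q M V W e s) = pullSectLE q N V W e (F.f V hV s) := by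
  let ι := {P : X.Opens // IsAffineOpen P ∧ P ≤ Q}
  haveI : Coh.IsQCoh ((Scheme.Modules.pullback q).obj M) := isQCoh_pullback q inferInstance
  have hloc : ∀ P : ι, ∃ G : Fam ((Scheme.Modules.pullback q).obj M) ((Scheme.Modules.pullback q).obj N)
      (q ⁻¹ᵁ P.1), ∀ (V : X.Opens) (hV : V ≤ P.1) (W : T.Opens) (e : W ≤ q ⁻¹ᵁ V) (s : Γ(M, V)),
        G.f W (e.trans (q.preimage_mono hV)) (pullSectLE q M V W e s) =
          pullSectLE q N V W e (F.f V (hV.trans P.2.2) s) := by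
    rintro ⟨P, hP, hPQ⟩
    have hW : IsAffineOpen (q ⁻¹ᵁ P) := hP.preimage q
    letI : Algebra Γ(X, P) Γ(T, q ⁻¹ᵁ P) := (q.appLE P (q ⁻¹ᵁ P) le_rfl).hom.toAlgebra
    obtain ⟨ΦM, hΦM⟩ := exists_bijective_liftBaseChange q M hP hW le_rfl
    obtain ⟨ΦN, hΦN⟩ := exists_bijective_liftBaseChange q N hP hW le_rfl
    obtain ⟨G, hG⟩ := exists_fam (N := (Scheme.Modules.pullback q).obj N) hW
      (ΦN.toLinearMap ∘ₗ (F.f P hPQ).baseChange Γ(T, q ⁻¹ᵁ P) ∘ₗ ΦM.symm.toLinearMap)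
    refine ⟨G, fun V hV W e s => ?_⟩
    refine section_eq_of_locally fun y hy => ?_
    obtain ⟨a, haV, hya⟩ := hP.exists_basicOpen_le ⟨q y, e hy⟩ (hV (e hy))
    have hD : X.basicOpen a ≤ P := X.basicOpen_le a
    refine ⟨W ⊓ q ⁻¹ᵁ X.basicOpen a, inf_le_left, ⟨hy, hya⟩, ?_⟩
    rw [G.nat, res_pullSectLE q N haV inf_le_left e inf_le_right,
      res_pullSectLE q M haV inf_le_left e inf_le_right, F.nat]
    have := mem_span_basicOpen hP a (Submodule.span_univ (R := Γ(X, P)) (M := Γ(M, P))) (res M haV s)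
    generalize res M haV s = z at this ⊢
    induction this using Submodule.span_induction with
    | mem z hz =>
      obtain ⟨w, -, rfl⟩ := hz
      rw [← F.nat _ _ hD hPQ, ← res_pullSectLE q N hD (inf_le_right.trans (q.preimage_mono hD)) le_rfl inf_le_right,
        ← res_pullSectLE q M hD (inf_le_right.trans (q.preimage_mono hD)) le_rfl inf_le_right, ← G.nat _ _ _ le_rfl,
        hG]
      congr 1
      show ΦN ((F.f P hPQ).baseChange Γ(T, q ⁻¹ᵁ P) (ΦM.symm (pullSectLE q M P (q ⁻¹ᵁ P) le_rfl w))) = _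
      rw [← hΦM, LinearEquiv.symm_apply_apply, LinearMap.baseChange_tmul, hΦN]
    | zero => simp only [map_zero]
    | add u v _ _ hu hv => simp only [map_add, hu, hv]
    | smul r u _ hu =>
      simp only [map_smul, pullSectLE_smul, hu]
  choose G hG using hloc
  obtain ⟨G₀, hG₀⟩ := exists_fam_of_local (fun P : ι => q ⁻¹ᵁ P.1) (fun P => q.preimage_mono P.2.2)
    (fun y hy => by
      obtain ⟨P, hP, hyP, hPQ⟩ := exists_isAffineOpen_mem_and_subset (show q y ∈ Q from hy)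
      exact ⟨⟨P, hP, hPQ⟩, hyP⟩) G (fun P P' y hy => by
      obtain ⟨R, hR, hyR, hRP⟩ := exists_isAffineOpen_mem_and_subset (show q y ∈ P.1 ⊓ P'.1 from hy)
      have h₁ : R ≤ P.1 := fun z hz => (hRP hz).1
      have h₂ : R ≤ P'.1 := fun z hz => (hRP hz).2
      refine ⟨q ⁻¹ᵁ R, hR.preimage q, _, q.preimage_mono h₁, q.preimage_mono h₂, hyR,
        span_pullSectLE q M hR (hR.preimage q) le_rfl (Submodule.span_univ (R := Γ(X, R))), ?_⟩
      rintro _ ⟨w, -, rfl⟩
      rw [hG P R h₁ _ le_rfl w, hG P' R h₂ _ le_rfl w])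
  refine ⟨G₀, fun V hV W e s => section_eq_of_locally fun y hy => ?_⟩
  obtain ⟨P, hP, hyP, hPV⟩ := exists_isAffineOpen_mem_and_subset (show q y ∈ V from e hy)
  refine ⟨W ⊓ q ⁻¹ᵁ P, inf_le_left, ⟨hy, hyP⟩, ?_⟩
  have hPV' : P ≤ V := hPV
  rw [G₀.nat, res_pullSectLE q M hPV' inf_le_left e inf_le_right,
    res_pullSectLE q N hPV' inf_le_left e inf_le_right, F.nat,
    hG₀ ⟨P, hP, hPV'.trans hV⟩ _ inf_le_right, hG ⟨P, hP, hPV'.trans hV⟩ P le_rfl _ inf_le_right]

end Groth.Agent.ModDesc
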