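import Mathlib
import Groth.Agent.ModDesc.FamOps

/-!
# Adjoint families, inverse families
-/

universe u

open CategoryTheory CategoryTheory.Limits AlgebraicGeometry TopologicalSpace Opposite TensorProduct

set_option backward.isDefEq.respectTransparency false
set_option linter.style.haveILetI false
set_option linter.unusedSectionVars false

noncomputable section

namespace Groth.Agent.ModDesc

open Groth.Agent.QC

variable {X T : Scheme.{u}} (q : T ⟶ X) {M K : X.Modules} {N : T.Modules}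

lemma push_smul_def (N : T.Modules) (V : X.Opens) (r : Γ(X, V)) (n : Γ(N, q ⁻¹ᵁ V)) :
    (q.appLE V (q ⁻¹ᵁ V) le_rfl).hom r • n =
      (show Γ(N, q ⁻¹ᵁ V) from r • (show Γ((Scheme.Modules.pushforward q).obj N, V) from n)) := by
  show _ = (q.app V).hom r • n
  rw [Scheme.Hom.app_eq_appLE]

/-- A family out of a pullback as a family on the base. -/
def Fam.push {Q : X.Opens} (G : Fam ((Scheme.Modules.pullback q).obj M) N (q ⁻¹ᵁ Q)) :
    Fam M ((Scheme.Modules.pushforward q).obj N) Q where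
  f V hV :=
    { toFun := fun s => G.f (q ⁻¹ᵁ V) (q.preimage_mono hV) (pullSectLE q M V _ le_rfl s)
      map_add' := fun a b => by rw [map_add, map_add]
      map_smul' := fun r s => by
        rw [pullSectLE_smul, map_smul]
        exact push_smul_def q N V r _ }
  nat V' V h hV s := by
    show res N (q.preimage_mono h) (G.f (q ⁻¹ᵁ V) _ (pullSectLE q M V _ le_rfl s)) =
      G.f (q ⁻¹ᵁ V') _ (pullSectLE q M V' _ le_rfl (res M h s))
    rw [G.nat, res_pullSectLE q M h (q.preimage_mono h) le_rfl le_rfl]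

lemma Fam.push_apply {Q : X.Opens} (G : Fam ((Scheme.Modules.pullback q).obj M) N (q ⁻¹ᵁ Q))
    (V : X.Opens) (hV : V ≤ Q) (s : Γ(M, V)) :
    (G.push q).f V hV s = G.f (q ⁻¹ᵁ V) (q.preimage_mono hV) (pullSectLE q M V _ le_rfl s) := rfl

/-- Families out of a pullback are adjoint to families into a pushforward. -/
theorem exists_fam_adj [IsAffineHom q] [Coh.IsQCoh M] {Q : X.Opens}
    (F : Fam M ((Scheme.Modules.pushforward q).obj N) Q) :
    ∃ G : Fam ((Scheme.Modules.pullback q).obj M) N (q ⁻¹ᵁ Q),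
      ∀ (V : X.Opens) (hV : V ≤ Q) (s : Γ(M, V)), (G.push q).f V hV s = F.f V hV s := by
  let ι := {P : X.Opens // IsAffineOpen P ∧ P ≤ Q}
  haveI : Coh.IsQCoh ((Scheme.Modules.pullback q).obj M) := isQCoh_pullback q inferInstance
  have hloc : ∀ P : ι, ∃ G : Fam ((Scheme.Modules.pullback q).obj M) N (q ⁻¹ᵁ P.1),
      ∀ (V : X.Opens) (hV : V ≤ P.1) (s : Γ(M, V)),
        G.f (q ⁻¹ᵁ V) (q.preimage_mono hV) (pullSectLE q M V _ le_rfl s) = F.f V (hV.trans P.2.2) s := by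
    rintro ⟨P, hP, hPQ⟩
    have hW : IsAffineOpen (q ⁻¹ᵁ P) := hP.preimage q
    letI : Algebra Γ(X, P) Γ(T, q ⁻¹ᵁ P) := (q.appLE P (q ⁻¹ᵁ P) le_rfl).hom.toAlgebra
    obtain ⟨ΦM, hΦM⟩ := exists_bijective_liftBaseChange q M hP hW le_rfl
    let N' : Type u := Γ(N, q ⁻¹ᵁ P)
    letI : Module Γ(X, P) N' := Module.compHom N' (algebraMap Γ(X, P) Γ(T, q ⁻¹ᵁ P))
    haveI : IsScalarTower Γ(X, P) Γ(T, q ⁻¹ᵁ P) N' :=
      IsScalarTower.of_algebraMap_smul fun _ _ => rfl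
    let L : Γ(M, P) →ₗ[Γ(X, P)] N' :=
      { toFun := fun s => F.f P hPQ s
        map_add' := fun a b => map_add (F.f P hPQ) a b
        map_smul' := fun r s => by
          rw [map_smul]
          exact (push_smul_def q N P r (F.f P hPQ s)).symm }
    obtain ⟨G, hG⟩ := exists_fam (N := N) hW (L.liftBaseChange Γ(T, q ⁻¹ᵁ P) ∘ₗ ΦM.symm.toLinearMap)
    refine ⟨G, fun V hV s => ?_⟩
    let G' : Fam M ((Scheme.Modules.pushforward q).obj N) P := G.push q
    refine Fam.eq_of_agree hP G' (F.mono hPQ) le_rfl le_rfl Set.univ Submodule.span_univ (fun z _ => ?_) V hV s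
    show G.f (q ⁻¹ᵁ P) _ (pullSectLE q M P _ le_rfl z) = F.f P hPQ z
    rw [hG]
    show L.liftBaseChange Γ(T, q ⁻¹ᵁ P) (ΦM.symm (pullSectLE q M P _ le_rfl z)) = _
    rw [← hΦM, LinearEquiv.symm_apply_apply, LinearMap.liftBaseChange_tmul, one_smul]
    rfl
  choose G hG using hloc
  obtain ⟨G₀, hG₀⟩ := exists_fam_of_local (fun P : ι => q ⁻¹ᵁ P.1) (fun P => q.preimage_mono P.2.2)
    (fun y hy => by
      obtain ⟨P, hP, hyP, hPQ⟩ := exists_isAffineOpen_mem_and_subset (show q y ∈ Q from hy)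
      exact ⟨⟨P, hP, hPQ⟩, hyP⟩) G (fun P P' y hy => by
      obtain ⟨R, hR, hyR, hRP⟩ := exists_isAffineOpen_mem_and_subset (show q y ∈ P.1 ⊓ P'.1 from hy)
      have h₁ : R ≤ P.1 := fun z hz => (hRP hz).1
      have h₂ : R ≤ P'.1 := fun z hz => (hRP hz).2
      refine ⟨q ⁻¹ᵁ R, hR.preimage q, _, q.preimage_mono h₁, q.preimage_mono h₂, hyR,
        span_pullSectLE q M hR (hR.preimage q) le_rfl (Submodule.span_univ (R := Γ(X, R))), ?_⟩
      rintro _ ⟨w, -, rfl⟩
      rw [hG P R h₁ w, hG P' R h₂ w])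
  refine ⟨G₀, fun V hV s => section_eq_of_locally fun x hx => ?_⟩
  obtain ⟨P, hP, hxP, hPV⟩ := exists_isAffineOpen_mem_and_subset hx
  have hPV' : P ≤ V := hPV
  refine ⟨P, hPV', hxP, ?_⟩
  rw [(G₀.push q).nat, F.nat, Fam.push_apply, hG₀ ⟨P, hP, hPV'.trans hV⟩ _ le_rfl,
    hG ⟨P, hP, hPV'.trans hV⟩ P le_rfl]

/-- Families out of a pullback are determined by their adjoints. -/
theorem Fam.ext_push [IsAffineHom q] [Coh.IsQCoh M] {Q : X.Opens}
    (G₁ G₂ : Fam ((Scheme.Modules.pullback q).obj M) N (q ⁻¹ᵁ Q))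
    (h : ∀ (V : X.Opens) (hV : V ≤ Q) (s : Γ(M, V)), IsAffineOpen V → (G₁.push q).f V hV s = (G₂.push q).f V hV s)
    (W : T.Opens) (hW : W ≤ q ⁻¹ᵁ Q) (t : Γ((Scheme.Modules.pullback q).obj M, W)) :
    G₁.f W hW t = G₂.f W hW t := by
  haveI : Coh.IsQCoh ((Scheme.Modules.pullback q).obj M) := isQCoh_pullback q inferInstance
  refine Fam.eq_of_pieces G₁ G₂ (fun y hy => ?_) W hW t
  obtain ⟨P, hP, hyP, hPQ⟩ := exists_isAffineOpen_mem_and_subset (show q y ∈ Q from hy)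
  have hPQ' : P ≤ Q := hPQ
  refine ⟨q ⁻¹ᵁ P, hP.preimage q, q.preimage_mono hPQ', _, hyP,
    span_pullSectLE q M hP (hP.preimage q) le_rfl (Submodule.span_univ (R := Γ(X, P))), ?_⟩
  rintro _ ⟨w, -, rfl⟩
  exact h P hPQ' w hP

/-- The inverse of a bijective family. -/
def Fam.inv {Q : X.Opens} (F : Fam M K Q) (hF : ∀ V hV, Function.Bijective (F.f V hV)) : Fam K M Q where
  f V hV := (LinearEquiv.ofBijective (F.f V hV) (hF V hV)).symm.toLinearMap
  nat V' V h hV s := by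
    apply (hF V' (h.trans hV)).1
    show F.f V' _ (res M h ((LinearEquiv.ofBijective (F.f V hV) (hF V hV)).symm s)) =
      F.f V' _ ((LinearEquiv.ofBijective (F.f V' (h.trans hV)) (hF V' (h.trans hV))).symm (res K h s))
    rw [← F.nat _ _ h hV]
    refine (congrArg (res K h) ((LinearEquiv.ofBijective (F.f V hV) (hF V hV)).apply_symm_apply s)).trans ?_
    exact ((LinearEquiv.ofBijective (F.f V' (h.trans hV)) (hF V' (h.trans hV))).apply_symm_apply _).symm

lemma Fam.inv_apply_apply {Q : X.Opens} (F : Fam M K Q) (hF : ∀ V hV, Function.Bijective (F.f V hV))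
    (V : X.Opens) (hV : V ≤ Q) (s : Γ(M, V)) : (F.inv hF).f V hV (F.f V hV s) = s :=
  (LinearEquiv.ofBijective (F.f V hV) (hF V hV)).symm_apply_apply s

lemma Fam.apply_inv_apply {Q : X.Opens} (F : Fam M K Q) (hF : ∀ V hV, Function.Bijective (F.f V hV))
    (V : X.Opens) (hV : V ≤ Q) (s : Γ(K, V)) : F.f V hV ((F.inv hF).f V hV s) = s :=
  (LinearEquiv.ofBijective (F.f V hV) (hF V hV)).apply_symm_apply s

/-- Pullbacks of mutually inverse families are bijective. -/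
theorem bijective_of_pull_inverse [IsAffineHom q] [Coh.IsQCoh M] [Coh.IsQCoh K] {Q : X.Opens}
    (A : Fam ((Scheme.Modules.pullback q).obj M) ((Scheme.Modules.pullback q).obj K) (q ⁻¹ᵁ Q))
    (B : Fam ((Scheme.Modules.pullback q).obj K) ((Scheme.Modules.pullback q).obj M) (q ⁻¹ᵁ Q))
    (hAB : ∀ (V : X.Opens) (hV : V ≤ Q) (s : Γ(M, V)), IsAffineOpen V →
      B.f (q ⁻¹ᵁ V) (q.preimage_mono hV) (A.f (q ⁻¹ᵁ V) (q.preimage_mono hV) (pullSectLE q M V _ le_rfl s)) =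
        pullSectLE q M V _ le_rfl s)
    (hBA : ∀ (V : X.Opens) (hV : V ≤ Q) (s : Γ(K, V)), IsAffineOpen V →
      A.f (q ⁻¹ᵁ V) (q.preimage_mono hV) (B.f (q ⁻¹ᵁ V) (q.preimage_mono hV) (pullSectLE q K V _ le_rfl s)) =
        pullSectLE q K V _ le_rfl s)
    (W : T.Opens) (hW : W ≤ q ⁻¹ᵁ Q) : Function.Bijective (A.f W hW) :=
  Function.bijective_iff_has_inverse.2 ⟨B.f W hW,
    fun s => Fam.ext_push q (A.comp B) (Fam.ofHom (𝟙 _) _) hAB W hW s,
    fun s => Fam.ext_push q (B.comp A) (Fam.ofHom (𝟙 _) _) hBA W hW s⟩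

/-- The pullback of a bijective family is bijective. -/
theorem exists_fam_pull_bijective [IsAffineHom q] [Coh.IsQCoh M] [Coh.IsQCoh K] {Q : X.Opens} (F : Fam M K Q)
    (hF : ∀ V hV, Function.Bijective (F.f V hV)) :
    ∃ A : Fam ((Scheme.Modules.pullback q).obj M) ((Scheme.Modules.pullback q).obj K) (q ⁻¹ᵁ Q),
      (∀ W hW, Function.Bijective (A.f W hW)) ∧ ∀ (V : X.Opens) (hV : V ≤ Q) (s : Γ(M, V)),
        A.f (q ⁻¹ᵁ V) (q.preimage_mono hV) (pullSectLE q M V _ le_rfl s) =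
          pullSectLE q K V _ le_rfl (F.f V hV s) := by
  obtain ⟨A, hA⟩ := exists_fam_pull q F
  obtain ⟨B, hB⟩ := exists_fam_pull q (F.inv hF)
  refine ⟨A, fun W hW => bijective_of_pull_inverse q A B (fun V hV s _ => ?_) (fun V hV s _ => ?_) W hW,
    fun V hV s => hA V hV _ le_rfl s⟩
  · rw [hA V hV _ le_rfl s, hB V hV _ le_rfl, Fam.inv_apply_apply]
  · rw [hB V hV _ le_rfl s, hA V hV _ le_rfl, Fam.apply_inv_apply]

end Groth.Agent.ModDesc
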