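import Mathlib
import Groth.Agent.ModDesc.FamOps
import Groth.Agent.QC.IdealMod
import Groth.Agent.QC.Localisation
import Groth.Agent.RPushQC.SectionsExact

/-!
# Gluing two quasi-coherent modules along an open
-/

universe u

open CategoryTheory CategoryTheory.Limits AlgebraicGeometry TopologicalSpace Opposite

set_option backward.isDefEq.respectTransparency false
set_option linter.style.haveILetI false
set_option linter.unusedSectionVars false

noncomputable section

namespace Groth.Agent.ModDesc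

open Groth.Agent.QC

variable {X : Scheme.{u}}

/-- The module of sections over the traces on an open. -/
def rp (O : X.Opens) (M : X.Modules) : X.Modules :=
  (Scheme.Modules.pushforward O.ι).obj ((Scheme.Modules.restrictFunctor O.ι).obj M)

lemma ι_image_le (O V : X.Opens) : O.ι ''ᵁ (O.ι ⁻¹ᵁ V) ≤ O ⊓ V := (ZCl.le_image O V)

/-- Sections of `rp` over `V` as sections over `O ⊓ V`. -/
def rpTo (O : X.Opens) (M : X.Modules) (V : X.Opens) : Γ(rp O M, V) →+ Γ(M, O ⊓ V) :=
  res M (ZCl.image_le O V)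

lemma rpTo_bijective (O : X.Opens) (M : X.Modules) (V : X.Opens) : Function.Bijective (rpTo O M V) :=
  res_bijective_of_eq M (le_antisymm (ZCl.image_le O V) (ι_image_le O V))

lemma rpTo_smul (O : X.Opens) (M : X.Modules) (V : X.Opens) (r : Γ(X, V)) (m : Γ(rp O M, V)) :
    rpTo O M V (r • m) = resO X (inf_le_right : O ⊓ V ≤ V) r • rpTo O M V m := by
  let m' : Γ(M.restrict O.ι, O.ι ⁻¹ᵁ V) := m
  show res M (ZCl.image_le O V) ((M.restrictAppIso O.ι (O.ι ⁻¹ᵁ V)).hom ((O.ι.app V).hom r • m')) = _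
  rw [Scheme.Modules.smul_restrictAppIso_hom_apply, res_smul]
  congr 1
  show (O.ι.app V ≫ (O.ι.appIso (O.ι ⁻¹ᵁ V)).inv ≫ X.presheaf.map (homOfLE (ZCl.image_le O V)).op).hom r = _
  rw [← Category.assoc, Scheme.Hom.app_eq_appLE, Scheme.Hom.appLE_appIso_inv, ← Functor.map_comp]
  rfl

lemma rpTo_res (O : X.Opens) (M : X.Modules) {W V : X.Opens} (h : W ≤ V) (m : Γ(rp O M, V)) :
    rpTo O M W (res (rp O M) h m) = res M (inf_le_inf_left O h) (rpTo O M V m) := by
  let m' : Γ(M, O.ι ''ᵁ (O.ι ⁻¹ᵁ V)) := m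
  show res M (ZCl.image_le O W) (res M (O.ι.image_mono (O.ι.preimage_mono h)) m') =
    res M (inf_le_inf_left O h) (res M (ZCl.image_le O V) m')
  rw [res_res, res_res]

lemma isQCoh_rp [CompactSpace X] [QuasiSeparatedSpace X] {O : X.Opens} (hO : IsCompact (O : Set X))
    (M : X.Modules) [hM : Coh.IsQCoh M] : Coh.IsQCoh (rp O M) := by
  haveI : CompactSpace O.toScheme := isCompact_iff_compactSpace.1 hO
  haveI : QuasiCompact O.ι := inferInstance
  haveI : ((Scheme.Modules.restrictFunctor O.ι).obj M).IsQuasicoherent := isQCoh_restrict _ hM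
  exact isQCoh_pushforward O.ι

/-- A family gives a morphism of the modules of traces. -/
lemma exists_rp_hom {M N : X.Modules} {O Q : X.Opens} (hQO : Q ≤ O) (F : Fam M N Q) :
    ∃ v : rp O M ⟶ rp Q N, ∀ (V : X.Opens) (m : Γ(rp O M, V)),
      rpTo Q N V (v.app V m) = F.f (Q ⊓ V) inf_le_left (res M (inf_le_inf_right V hQO) (rpTo O M V m)) := by
  let val : ∀ V, Γ(rp O M, V) → Γ(N, Q ⊓ V) := fun V m =>
    F.f (Q ⊓ V) inf_le_left (res M (inf_le_inf_right V hQO) (rpTo O M V m))
  choose g hg using fun V m => (rpTo_bijective Q N V).2 (val V m)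
  obtain ⟨v, hv⟩ := exists_hom_of_local (M := rp O M) (N := rp Q N) (fun _ : PUnit.{u+1} => ⊤)
    (fun x => ⟨⟨⟩, trivial⟩)
    (fun _ V _ =>
      { toFun := g V
        map_add' := fun a b => (rpTo_bijective Q N V).1 (by
          rw [map_add, hg, hg, hg]; simp only [val, map_add])
        map_smul' := fun r a => (rpTo_bijective Q N V).1 (by
          rw [RingHom.id_apply, rpTo_smul, hg, hg]
          simp only [val]
          rw [rpTo_smul, res_smul, map_smul, resO_resO]) })
    (fun _ V' V h _ m => (rpTo_bijective Q N V').1 (by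
      show rpTo Q N V' (res (rp Q N) h (g V m)) = rpTo Q N V' (g V' (res (rp O M) h m))
      rw [rpTo_res, hg, hg]
      simp only [val]
      rw [F.nat, rpTo_res, res_res, res_res]))
    (fun _ _ V _ _ m => rfl)
  exact ⟨v, fun V m => by rw [hv ⟨⟩ V le_top m]; exact hg V m⟩

/-- The identity as a family. -/
def Fam.id (M : X.Modules) (U : X.Opens) : Fam M M U := Fam.ofHom (𝟙 M) U

set_option maxHeartbeats 1000000 in
/-- Glue two quasi-coherent modules along the intersection of two quasi-compact opens. -/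
theorem exists_glue_two [CompactSpace X] [QuasiSeparatedSpace X] {O U : X.Opens} (hO : IsCompact (O : Set X))
    (hU : IsCompact (U : Set X)) {G₁ G₂ : X.Modules} [Coh.IsQCoh G₁] [Coh.IsQCoh G₂] (e : Fam G₁ G₂ (O ⊓ U))
    (he : ∀ V hV, Function.Bijective (e.f V hV)) :
    ∃ (G : X.Modules) (_ : Coh.IsQCoh G) (p₁ : Fam G G₁ O) (p₂ : Fam G G₂ U),
      (∀ V hV, Function.Bijective (p₁.f V hV)) ∧ (∀ V hV, Function.Bijective (p₂.f V hV)) ∧
      ∀ V (hV : V ≤ O ⊓ U) s,
        e.f V hV (p₁.f V (hV.trans inf_le_left) s) = p₂.f V (hV.trans inf_le_right) s := by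
  classical
  obtain ⟨v, hv⟩ := exists_rp_hom (inf_le_left : O ⊓ U ≤ O) e
  obtain ⟨w, hw⟩ := exists_rp_hom (inf_le_right : O ⊓ U ≤ U) (Fam.id G₂ (O ⊓ U))
  haveI : Coh.IsQCoh (rp O G₁) := isQCoh_rp hO G₁
  haveI : Coh.IsQCoh (rp U G₂) := isQCoh_rp hU G₂
  haveI : Coh.IsQCoh (rp (O ⊓ U) G₂) :=
    isQCoh_rp (QuasiSeparatedSpace.inter_isCompact _ _ O.2 hO U.2 hU) G₂
  let P := rp O G₁ ⊞ rp U G₂
  let d : P ⟶ rp (O ⊓ U) G₂ := biprod.desc v (-w)
  haveI : Coh.IsQCoh P := RPushQC.isQCoh_biprod inferInstance inferInstance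
  let G := kernel d
  haveI hG : Coh.IsQCoh G := isQCoh_kernel inferInstance inferInstance d
  let a : G ⟶ rp O G₁ := kernel.ι d ≫ biprod.fst
  let b : G ⟶ rp U G₂ := kernel.ι d ≫ biprod.snd
  have hd : ∀ V (x : Γ(P, V)),
      d.app V x = v.app V ((biprod.fst : P ⟶ _).app V x) - w.app V ((biprod.snd : P ⟶ _).app V x) := by
    intro V x
    have : d = (biprod.fst : P ⟶ _) ≫ v - (biprod.snd : P ⟶ _) ≫ w := by
      show biprod.desc v (-w) = _
      rw [biprod.desc_eq, Preadditive.comp_neg, sub_eq_add_neg]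
    rw [this]
    rfl
  have hab : ∀ V (s : Γ(G, V)), v.app V (a.app V s) = w.app V (b.app V s) := fun V s => by
    have := congrArg (fun φ : G ⟶ rp (O ⊓ U) G₂ => φ.app V s) (kernel.condition d)
    exact sub_eq_zero.1 ((hd V ((kernel.ι d).app V s)).symm.trans this)
  have hpair : ∀ V (x : Γ(rp O G₁, V)) (y : Γ(rp U G₂, V)), v.app V x = w.app V y →
      ∃ s : Γ(G, V), a.app V s = x ∧ b.app V s = y := by
    intro V x y hxy
    let z : Γ(P, V) := (biprod.inl : _ ⟶ P).app V x + (biprod.inr : _ ⟶ P).app V y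
    have h1 : (biprod.fst : P ⟶ _).app V z = x := by
      show (biprod.fst : P ⟶ _).app V ((biprod.inl : _ ⟶ P).app V x + (biprod.inr : _ ⟶ P).app V y) = x
      rw [map_add]
      show ((biprod.inl : _ ⟶ P) ≫ biprod.fst).app V x + ((biprod.inr : _ ⟶ P) ≫ biprod.fst).app V y = x
      rw [biprod.inl_fst, biprod.inr_fst]
      exact add_zero x
    have h2 : (biprod.snd : P ⟶ _).app V z = y := by
      show (biprod.snd : P ⟶ _).app V ((biprod.inl : _ ⟶ P).app V x + (biprod.inr : _ ⟶ P).app V y) = y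
      rw [map_add]
      show ((biprod.inl : _ ⟶ P) ≫ biprod.snd).app V x + ((biprod.inr : _ ⟶ P) ≫ biprod.snd).app V y = y
      rw [biprod.inl_snd, biprod.inr_snd]
      exact zero_add y
    obtain ⟨s, hs⟩ := (mem_range_kernel_app d V z).2 (by rw [hd, h1, h2, hxy, sub_self])
    exact ⟨s, (congrArg ((biprod.fst : P ⟶ _).app V) hs).trans h1,
      (congrArg ((biprod.snd : P ⟶ _).app V) hs).trans h2⟩
  have hext : ∀ V (s t : Γ(G, V)), a.app V s = a.app V t → b.app V s = b.app V t → s = t := by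
    intro V s t h1 h2
    apply ZCl.injective_of_mono (kernel.ι d) V
    have key : ∀ x : Γ(P, V), x = (biprod.inl : _ ⟶ P).app V ((biprod.fst : P ⟶ _).app V x) +
        (biprod.inr : _ ⟶ P).app V ((biprod.snd : P ⟶ _).app V x) := fun x => by
      conv_lhs => rw [show x = (𝟙 P : P ⟶ P).app V x from rfl, ← biprod.total]
      rfl
    rw [key ((kernel.ι d).app V s), key ((kernel.ι d).app V t)]
    exact congrArg₂ (fun x y => (biprod.inl : _ ⟶ P).app V x + (biprod.inr : _ ⟶ P).app V y) h1 h2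
  let p₁ : Fam G G₁ O :=
    { f := fun V hV =>
        { toFun := fun s => res G₁ (le_inf hV le_rfl) (rpTo O G₁ V (a.app V s))
          map_add' := fun s t => by simp only [map_add]
          map_smul' := fun r s => by
            rw [Scheme.Modules.Hom.app_smul, rpTo_smul, res_smul, resO_resO, resO_self, RingHom.id_apply] }
      nat := fun V' V h hV s => by
        show res G₁ h (res G₁ _ (rpTo O G₁ V (a.app V s))) = res G₁ _ (rpTo O G₁ V' (a.app V' (res G h s)))
        rw [← app_res a h s, rpTo_res, res_res, res_res] }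
  let p₂ : Fam G G₂ U :=
    { f := fun V hV =>
        { toFun := fun s => res G₂ (le_inf hV le_rfl) (rpTo U G₂ V (b.app V s))
          map_add' := fun s t => by simp only [map_add]
          map_smul' := fun r s => by
            rw [Scheme.Modules.Hom.app_smul, rpTo_smul, res_smul, resO_resO, resO_self, RingHom.id_apply] }
      nat := fun V' V h hV s => by
        show res G₂ h (res G₂ _ (rpTo U G₂ V (b.app V s))) = res G₂ _ (rpTo U G₂ V' (b.app V' (res G h s)))
        rw [← app_res b h s, rpTo_res, res_res, res_res] }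
  have hw' : ∀ V (y : Γ(rp U G₂, V)), rpTo (O ⊓ U) G₂ V (w.app V y) =
      res G₂ (inf_le_inf_right V (inf_le_right : O ⊓ U ≤ U)) (rpTo U G₂ V y) := fun V y => hw V y
  refine ⟨G, hG, p₁, p₂, fun V hV => ⟨fun s t hst => ?_, fun m => ?_⟩, fun V hV => ⟨fun s t hst => ?_, fun m => ?_⟩,
    fun V hV s => ?_⟩
  · have h1 : a.app V s = a.app V t :=
      (rpTo_bijective O G₁ V).1 ((res_bijective_of_eq G₁ (le_antisymm (le_inf hV le_rfl) inf_le_right)).1 hst)
    refine hext V s t h1 ((rpTo_bijective U G₂ V).1 ?_)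
    have h2 := congrArg (rpTo (O ⊓ U) G₂ V) ((hab V s).symm.trans ((congrArg (v.app V) h1).trans (hab V t)))
    rw [hw', hw'] at h2
    exact (res_bijective_of_eq G₂ (le_antisymm (inf_le_inf_right V inf_le_right)
      (le_inf (le_inf (inf_le_right.trans hV) inf_le_left) inf_le_right))).1 h2
  · obtain ⟨x, hx⟩ := (rpTo_bijective O G₁ V).2 (res G₁ inf_le_right m)
    obtain ⟨y, hy⟩ := (rpTo_bijective U G₂ V).2
      (res G₂ (le_inf (le_inf (inf_le_right.trans hV) inf_le_left) inf_le_right : U ⊓ V ≤ (O ⊓ U) ⊓ V)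
        (rpTo (O ⊓ U) G₂ V (v.app V x)))
    obtain ⟨s, hs, -⟩ := hpair V x y ((rpTo_bijective (O ⊓ U) G₂ V).1 (by rw [hw', hy, res_res, res_self]))
    refine ⟨s, ?_⟩
    show res G₁ _ (rpTo O G₁ V (a.app V s)) = m
    rw [hs, hx, res_res, res_self]
  · have h1 : b.app V s = b.app V t :=
      (rpTo_bijective U G₂ V).1 ((res_bijective_of_eq G₂ (le_antisymm (le_inf hV le_rfl) inf_le_right)).1 hst)
    refine hext V s t ((rpTo_bijective O G₁ V).1 ?_) h1
    have h2 := congrArg (rpTo (O ⊓ U) G₂ V) ((hab V s).trans ((congrArg (w.app V) h1).trans (hab V t).symm))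
    rw [hv, hv] at h2
    exact (res_bijective_of_eq G₁ (le_antisymm (inf_le_inf_right V inf_le_left)
      (le_inf (le_inf inf_le_left (inf_le_right.trans hV)) inf_le_right))).1 ((he _ _).1 h2)
  · obtain ⟨y, hy⟩ := (rpTo_bijective U G₂ V).2 (res G₂ inf_le_right m)
    obtain ⟨n, hn⟩ := (he ((O ⊓ U) ⊓ V) inf_le_left).2 (rpTo (O ⊓ U) G₂ V (w.app V y))
    obtain ⟨x, hx⟩ := (rpTo_bijective O G₁ V).2
      (res G₁ (le_inf (le_inf inf_le_left (inf_le_right.trans hV)) inf_le_right : O ⊓ V ≤ (O ⊓ U) ⊓ V) n)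
    obtain ⟨s, -, hs⟩ := hpair V x y ((rpTo_bijective (O ⊓ U) G₂ V).1 (by rw [hv, hx, res_res, res_self, hn]))
    refine ⟨s, ?_⟩
    show res G₂ _ (rpTo U G₂ V (b.app V s)) = m
    rw [hs, hy, res_res, res_self]
  · have h2 := congrArg (rpTo (O ⊓ U) G₂ V) (hab V s)
    rw [hv, hw'] at h2
    show e.f V hV (res G₁ _ (rpTo O G₁ V (a.app V s))) = res G₂ _ (rpTo U G₂ V (b.app V s))
    have h3 := congrArg (res G₂ (le_inf hV le_rfl : V ≤ (O ⊓ U) ⊓ V)) h2
    rw [e.nat, res_res, res_res] at h3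
    exact h3

end Groth.Agent.ModDesc
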