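import Mathlib
import Groth.Agent.ModDesc.Glue2
import Groth.Agent.ModDesc.FamAdj

/-!
# Partial models of a module over a limit of schemes
-/

universe u

open CategoryTheory CategoryTheory.Limits AlgebraicGeometry TopologicalSpace Opposite TensorProduct

set_option backward.isDefEq.respectTransparency false
set_option linter.style.haveILetI false
set_option linter.unusedSectionVars false

noncomputable section

namespace Groth.Agent.ModDesc

open Groth.Agent.QC

variable {I : Type u} [SmallCategory I] [IsCofiltered I] (D : I ⥤ Scheme.{u}) (c : Cone D) (hc : IsLimit c)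
  [∀ {i j : I} (f : i ⟶ j), IsAffineHom (D.map f)] (F : c.pt.Modules)

/-- Finite presentation on an open. -/
def FPOn {X : Scheme.{u}} (G : X.Modules) (O : X.Opens) : Prop :=
  ∀ x ∈ O, ∃ W : X.Opens, x ∈ W ∧ HasFinPres G W

lemma FPOn.finitePresentation {X : Scheme.{u}} {G : X.Modules} {O : X.Opens} (h : FPOn G O)
    (hG : Coh.IsQCoh G) {V : X.Opens} (hV : IsAffineOpen V) (hVO : V ≤ O) :
    Module.FinitePresentation Γ(X, V) Γ(G, V) :=
  LocFree.finitePresentation_sections_of_local hG hV fun x hx => by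
    obtain ⟨W, hxW, hW⟩ := h x (hVO hx)
    exact ⟨W, hxW, fun B hB hBW => LocFree.fp_of_hasFinPres hG hB (hW.mono hBW)⟩

lemma fpOn_of_finitePresentation {X : Scheme.{u}} {G : X.Modules} (hG : Coh.IsQCoh G) {O : X.Opens}
    (h : ∀ x ∈ O, ∃ V : X.Opens, IsAffineOpen V ∧ x ∈ V ∧ Module.FinitePresentation Γ(X, V) Γ(G, V)) :
    FPOn G O := fun x hx => by
  obtain ⟨V, hV, hxV, hfp⟩ := h x hx
  haveI : G.IsQuasicoherent := hG
  haveI := hfp
  exact ⟨V, hxV, hasFinPres_of_finitePresentation hV⟩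

/-- A model at the stage `j`, over an open, of the module `F`. -/
structure Model (j : I) (O : (D.obj j).Opens) where
  /-- the module -/
  G : (D.obj j).Modules
  qc : Coh.IsQCoh G
  fp : FPOn G O
  /-- the identification with `F` -/
  h : Fam ((Scheme.Modules.pullback (c.π.app j)).obj G) F (c.π.app j ⁻¹ᵁ O)
  bij : ∀ W hW, Function.Bijective (h.f W hW)

variable {D c F}

/-- The map to `F` on the stage. -/
def Model.α {j : I} {O : (D.obj j).Opens} (m : Model D c F j O) :
    Fam m.G ((Scheme.Modules.pushforward (c.π.app j)).obj F) O :=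
  m.h.push (c.π.app j)

lemma Model.α_apply {j : I} {O : (D.obj j).Opens} (m : Model D c F j O) (V : (D.obj j).Opens) (hV : V ≤ O)
    (s : Γ(m.G, V)) :
    m.α.f V hV s = m.h.f (c.π.app j ⁻¹ᵁ V) ((c.π.app j).preimage_mono hV)
      (pullSectLE (c.π.app j) m.G V _ le_rfl s) := rfl

lemma preimage_le_stage {j k : I} (a : k ⟶ j) (O : (D.obj j).Opens) :
    c.π.app k ⁻¹ᵁ (D.map a ⁻¹ᵁ O) ≤ c.π.app j ⁻¹ᵁ O := (congr($(c.w a) ⁻¹ᵁ O)).le

/-- The identification for the pullback of a model. -/
def Model.pullH {j k : I} {O : (D.obj j).Opens} (m : Model D c F j O) (a : k ⟶ j) :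
    Fam ((Scheme.Modules.pullback (c.π.app k)).obj ((Scheme.Modules.pullback (D.map a)).obj m.G)) F
      (c.π.app k ⁻¹ᵁ (D.map a ⁻¹ᵁ O)) :=
  (Fam.ofHom ((trIso (c.π.app k) (D.map a) (c.w a)).hom.app m.G) _).comp
    (m.h.mono (preimage_le_stage a O))

/-- The pullback of a model to a later stage. -/
def Model.pull {j k : I} {O : (D.obj j).Opens} (m : Model D c F j O) (a : k ⟶ j) :
    Model D c F k (D.map a ⁻¹ᵁ O) where
  G := (Scheme.Modules.pullback (D.map a)).obj m.G
  qc := isQCoh_pullback _ m.qc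
  fp := fpOn_of_finitePresentation (isQCoh_pullback _ m.qc) fun x hx => by
    obtain ⟨U, hU, hxU, hUO⟩ := exists_isAffineOpen_mem_and_subset (show D.map a x ∈ O from hx)
    haveI : Coh.IsQCoh m.G := m.qc
    haveI := m.fp.finitePresentation m.qc hU hUO
    letI : Algebra Γ(D.obj j, U) Γ(D.obj k, D.map a ⁻¹ᵁ U) :=
      ((D.map a).appLE U (D.map a ⁻¹ᵁ U) le_rfl).hom.toAlgebra
    obtain ⟨Φ, -⟩ := exists_bijective_liftBaseChange (D.map a) m.G hU (hU.preimage _) le_rfl
    exact ⟨D.map a ⁻¹ᵁ U, hU.preimage _, hxU, Module.FinitePresentation.of_equiv Φ⟩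
  h := m.pullH a
  bij W hW := (m.bij W (hW.trans (preimage_le_stage a O))).comp
    (ZCl.bijective_of_isIso ((trIso (c.π.app k) (D.map a) (c.w a)).hom.app m.G) W)

/-- The map to `F` of a pulled back section. -/
lemma Model.pull_α {j k : I} {O : (D.obj j).Opens} (m : Model D c F j O) (a : k ⟶ j) (V : (D.obj k).Opens)
    (hV : V ≤ D.map a ⁻¹ᵁ O) (z : Γ((Scheme.Modules.pullback (D.map a)).obj m.G, V)) :
    (m.pull a).α.f V hV z = m.h.f (c.π.app k ⁻¹ᵁ V)
      (((c.π.app k).preimage_mono hV).trans (preimage_le_stage a O))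
      (tr (c.π.app k) (D.map a) (c.w a) m.G V (c.π.app k ⁻¹ᵁ V) le_rfl z) := rfl

/-- The map to `F` of a pulled back section, on generators. -/
lemma Model.pull_α_pullSect {j k : I} {O : (D.obj j).Opens} (m : Model D c F j O) (a : k ⟶ j)
    (V : (D.obj j).Opens) (hV : V ≤ O) (s : Γ(m.G, V)) :
    (m.pull a).α.f (D.map a ⁻¹ᵁ V) ((D.map a).preimage_mono hV) (pullSectLE (D.map a) m.G V _ le_rfl s) =
      res F (preimage_le_stage a V) (m.α.f V hV s) := by
  rw [Model.pull_α, Model.α_apply, m.h.nat,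
    res_pullSectLE (c.π.app j) m.G (le_refl V) (preimage_le_stage a V) le_rfl (preimage_le_stage a V), res_self,
    tr_pullSectLE (c.π.app k) (D.map a) (c.w a) m.G le_rfl le_rfl (preimage_le_stage a V)]

end Groth.Agent.ModDesc
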