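import Mathlib
import Groth.Agent.ModDesc.Model

/-!
# Gluing partial models
-/

universe u

open CategoryTheory CategoryTheory.Limits AlgebraicGeometry TopologicalSpace Opposite TensorProduct

set_option backward.isDefEq.respectTransparency false
set_option linter.style.haveILetI false
set_option linter.unusedSectionVars false

noncomputable section

namespace Groth.Agent.ModDesc

open Groth.Agent.QC

variable {I : Type u} [SmallCategory I] [IsCofiltered I] {D : I ⥤ Scheme.{u}} {c : Cone D} (hc : IsLimit c)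
  [∀ {i j : I} (f : i ⟶ j), IsAffineHom (D.map f)] {F : c.pt.Modules}

/-- Compact opens are finite unions of affine opens. -/
lemma exists_affine_pieces {X : Scheme.{u}} {Q : X.Opens} (hQ : IsCompact (Q : Set X)) :
    ∃ t : Finset X.affineOpens, (∀ P ∈ t, P.1 ≤ Q) ∧ ∀ x ∈ Q, ∃ P ∈ t, x ∈ P.1 := by
  obtain ⟨s, hs, hs'⟩ := (isCompact_and_isOpen_iff_finite_and_eq_biUnion_affineOpens).1 ⟨hQ, Q.2⟩
  have hmem : ∀ x : X, x ∈ Q ↔ ∃ P ∈ s, x ∈ P.1 := fun x => by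
    rw [← SetLike.mem_coe, hs']
    simp
  exact ⟨hs.toFinset, fun P hP x hx => (hmem x).2 ⟨P, hs.mem_toFinset.1 hP, hx⟩,
    fun x hx => let ⟨P, hP, hxP⟩ := (hmem x).1 hx; ⟨P, hs.mem_toFinset.2 hP, hxP⟩⟩

lemma qs_stage {i j : I} (a : j ⟶ i) [QuasiSeparatedSpace (D.obj i)] : QuasiSeparatedSpace (D.obj j) :=
  quasiSeparatedSpace_of_quasiSeparated (D.map a)

/-- The comparison of two models in the limit. -/
def Psi {j : I} {O U Q : (D.obj j).Opens} (m₁ : Model D c F j O) (m₂ : Model D c F j U) (h₁ : Q ≤ O)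
    (h₂ : Q ≤ U) :
    Fam m₁.G ((Scheme.Modules.pushforward (c.π.app j)).obj ((Scheme.Modules.pullback (c.π.app j)).obj m₂.G)) Q :=
  ((m₁.h.mono ((c.π.app j).preimage_mono h₁)).comp
    ((m₂.h.inv m₂.bij).mono ((c.π.app j).preimage_mono h₂))).push (c.π.app j)

lemma Psi_spec {j : I} {O U Q : (D.obj j).Opens} (m₁ : Model D c F j O) (m₂ : Model D c F j U) (h₁ : Q ≤ O)
    (h₂ : Q ≤ U) (V : (D.obj j).Opens) (hV : V ≤ Q) (s : Γ(m₁.G, V)) :
    m₂.h.f (c.π.app j ⁻¹ᵁ V) ((c.π.app j).preimage_mono (hV.trans h₂)) ((Psi m₁ m₂ h₁ h₂).f V hV s) =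
      m₁.α.f V (hV.trans h₁) s :=
  Fam.apply_inv_apply m₂.h m₂.bij _ _ _

include hc in
set_option maxHeartbeats 1000000 in
/-- The comparison of two models comes from a stage. -/
theorem exists_stage_psi {j : I} [QuasiSeparatedSpace (D.obj j)] {O U Q : (D.obj j).Opens}
    (hQ : IsCompact (Q : Set (D.obj j))) (m₁ : Model D c F j O) (m₂ : Model D c F j U) (h₁ : Q ≤ O) (h₂ : Q ≤ U) :
    ∃ (k : I) (a : k ⟶ j) (E : Fam m₁.G (stageMod D m₂.G a) Q),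
      ∀ V (hV : V ≤ Q) s, (E.trans (c.π.app k) (D.map a) (c.w a) m₂.G).f V hV s = (Psi m₁ m₂ h₁ h₂).f V hV s := by
  classical
  haveI : Coh.IsQCoh m₁.G := m₁.qc
  haveI : Coh.IsQCoh m₂.G := m₂.qc
  obtain ⟨t, htQ, ht⟩ := exists_affine_pieces hQ
  let Ψ := Psi m₁ m₂ h₁ h₂
  let P : ∀ (U : t) (k : I), (k ⟶ j) → Prop := fun U k a =>
    ∃ E : Fam m₁.G (stageMod D m₂.G a) U.1.1, ∀ s,
      (E.trans (c.π.app k) (D.map a) (c.w a) m₂.G).f U.1.1 le_rfl s = Ψ.f U.1.1 (htQ U.1 U.2) s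
  obtain ⟨k, φ, hk⟩ := exists_later (Finset.univ : Finset t) P
    (fun U k φ l b ⟨E, hE⟩ => ⟨E.trans (D.map b) (D.map φ) (D.map_comp b φ).symm m₂.G, fun s => by
      rw [Fam.trans_apply, Fam.trans_apply,
        tr_tr (D.map b) (D.map φ) (D.map_comp b φ).symm m₂.G (c.π.app l) (c.w _) (c.w b) (c.w φ)
          U.1.2 (U.1.2.preimage _) le_rfl _ _ (preimage_le_of_stage D c φ U.1.1)]
      exact hE s⟩)
    (fun U _ => by
      haveI := m₁.fp.finitePresentation m₁.qc U.1.2 ((htQ U.1 U.2).trans h₁)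
      obtain ⟨k, φ, E, hE⟩ := exists_fam_stage_lin D c hc m₂.G U.1.2 (Ψ.f U.1.1 (htQ U.1 U.2))
      exact ⟨k, φ, E, hE⟩)
  choose E hE using fun U : t => hk U (Finset.mem_univ U)
  have hL : ∀ (U : t) (V : (D.obj j).Opens) (hV : V ≤ U.1.1) (s : Γ(m₁.G, V)),
      ((E U).trans (c.π.app k) (D.map φ) (c.w φ) m₂.G).f V hV s = Ψ.f V (hV.trans (htQ U.1 U.2)) s := fun U V hV s =>
    Fam.eq_of_agree U.1.2 _ Ψ le_rfl (htQ U.1 U.2) Set.univ Submodule.span_univ (fun s _ => hE U s) V hV s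
  choose pieces hle hcov using fun p : t × t => exists_pieces p.1.1 p.2.1
  have hgen : ∀ U : (D.obj j).affineOpens, ∃ T : Finset Γ(m₁.G, U.1),
      U.1 ≤ O → Submodule.span Γ(D.obj j, U.1) (T : Set Γ(m₁.G, U.1)) = ⊤ := fun U => by
    by_cases hU : U.1 ≤ O
    · haveI := m₁.fp.finitePresentation m₁.qc U.2 hU
      obtain ⟨T, hT⟩ : (⊤ : Submodule Γ(D.obj j, U.1) Γ(m₁.G, U.1)).FG := Module.Finite.fg_top
      exact ⟨T, fun _ => hT⟩
    · exact ⟨∅, fun h => absurd h hU⟩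
  choose T hT using hgen
  let S : Finset (Σ p : t × t, Σ P : {P // P ∈ pieces p}, Γ(m₁.G, P.1.1)) :=
    Finset.univ.sigma fun p => Finset.univ.sigma fun P => T P.1
  let m : ∀ n : (Σ p : t × t, Σ P : {P // P ∈ pieces p}, Γ(m₁.G, P.1.1)),
      Γ((Scheme.Modules.pullback (D.map φ)).obj m₂.G, D.map φ ⁻¹ᵁ n.2.1.1.1) := fun n =>
    (E n.1.1).f _ ((hle _ _ n.2.1.2).trans inf_le_left) n.2.2 -
      (E n.1.2).f _ ((hle _ _ n.2.1.2).trans inf_le_right) n.2.2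
  obtain ⟨l, a, hl⟩ := exists_forall_tr_eq_zero D c hc m₂.G φ S (fun n => n.2.1.1.1) (fun n => n.2.1.1.2) m fun n _ => by
    simp only [m]
    rw [map_sub, sub_eq_zero]
    exact ((hL n.1.1 _ ((hle _ _ n.2.1.2).trans inf_le_left) n.2.2).trans
      (hL n.1.2 _ ((hle _ _ n.2.1.2).trans inf_le_right) n.2.2).symm)
  let E' : ∀ U : t, Fam m₁.G (stageMod D m₂.G (a ≫ φ)) U.1.1 := fun U =>
    (E U).trans (D.map a) (D.map φ) (D.map_comp a φ).symm m₂.G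
  obtain ⟨E₀, hE₀⟩ := exists_fam_of_local (fun U : t => U.1.1) (fun U => htQ U.1 U.2)
    (fun x hx => let ⟨U, hU, hxU⟩ := ht x hx; ⟨⟨U, hU⟩, hxU⟩) E' (fun p q x hx => by
      obtain ⟨P, hP, hxP⟩ := hcov (p, q) x hx
      have hPp : P.1 ≤ p.1.1 := (hle (p, q) P hP).trans inf_le_left
      refine ⟨P.1, P.2, (T P : Set _), hPp, (hle (p, q) P hP).trans inf_le_right, hxP,
        hT P ((hPp.trans (htQ p.1 p.2)).trans h₁), fun z hz => ?_⟩
      have := hl ⟨(p, q), ⟨P, hP⟩, z⟩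
        (Finset.mem_sigma.2 ⟨Finset.mem_univ _, Finset.mem_sigma.2 ⟨Finset.mem_univ _, hz⟩⟩)
      rw [map_sub, sub_eq_zero] at this
      exact this)
  refine ⟨l, a ≫ φ, E₀, fun V hV s => Fam.eq_of_pieces _ Ψ (fun x hx => ?_) V hV s⟩
  obtain ⟨U, hU, hxU⟩ := ht x hx
  refine ⟨U.1, U.2, htQ U hU, Set.univ, hxU, Submodule.span_univ, fun z _ => ?_⟩
  rw [Fam.trans_apply, hE₀ ⟨U, hU⟩ U.1 le_rfl, Fam.trans_apply,
    tr_tr (D.map a) (D.map φ) (D.map_comp a φ).symm m₂.G (c.π.app l) (c.w _) (c.w a) (c.w φ) U.2 (U.2.preimage _)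
      le_rfl _ _ (preimage_le_of_stage D c φ U.1)]
  exact hE ⟨U, hU⟩ z

/-- Agreement with the comparison, on the later stage. -/
lemma psi_later {j k : I} {O U Q : (D.obj j).Opens} (m₁ : Model D c F j O) (m₂ : Model D c F j U) (h₁ : Q ≤ O)
    (h₂ : Q ≤ U) (a : k ⟶ j) (E : Fam m₁.G (stageMod D m₂.G a) Q)
    (hE : ∀ V (hV : V ≤ Q) s, (E.trans (c.π.app k) (D.map a) (c.w a) m₂.G).f V hV s = (Psi m₁ m₂ h₁ h₂).f V hV s)
    {l : I} (b : l ⟶ k) {r : l ⟶ j} (hr : b ≫ a = r) :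
    ∀ V (hV : V ≤ Q) s, ((E.trans (D.map b) (D.map a) (r := D.map r) (by rw [← D.map_comp, hr]) m₂.G).trans
      (c.π.app l) (D.map r) (c.w r) m₂.G).f V hV s = (Psi m₁ m₂ h₁ h₂).f V hV s := by
  subst hr
  haveI : Coh.IsQCoh m₁.G := m₁.qc
  haveI : Coh.IsQCoh m₂.G := m₂.qc
  intro V hV s
  refine Fam.eq_of_pieces _ (Psi m₁ m₂ h₁ h₂) (fun x hx => ?_) V hV s
  obtain ⟨P, hP, hxP, hPQ⟩ := exists_isAffineOpen_mem_and_subset hx
  refine ⟨P, hP, hPQ, Set.univ, hxP, Submodule.span_univ, fun z _ => ?_⟩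
  rw [Fam.trans_apply, Fam.trans_apply,
    tr_tr (D.map b) (D.map a) (D.map_comp b a).symm m₂.G (c.π.app l) (c.w _) (c.w b) (c.w a) hP (hP.preimage _)
      le_rfl _ _ (preimage_le_of_stage D c a P)]
  exact hE P hPQ z

/-- Transporting the comparison to the pulled back models. -/
theorem exists_compat {j k : I} {O U Q : (D.obj j).Opens} (m₁ : Model D c F j O) (m₂ : Model D c F j U)
    (h₁ : Q ≤ O) (h₂ : Q ≤ U) (a : k ⟶ j) (E : Fam m₁.G (stageMod D m₂.G a) Q)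
    (hE : ∀ V (hV : V ≤ Q) s, (E.trans (c.π.app k) (D.map a) (c.w a) m₂.G).f V hV s = (Psi m₁ m₂ h₁ h₂).f V hV s) :
    ∃ e : Fam (m₁.pull a).G (m₂.pull a).G (D.map a ⁻¹ᵁ Q),
      ∀ V (hV : V ≤ D.map a ⁻¹ᵁ Q) x,
        (m₂.pull a).α.f V (hV.trans ((D.map a).preimage_mono h₂)) (e.f V hV x) =
          (m₁.pull a).α.f V (hV.trans ((D.map a).preimage_mono h₁)) x := by
  haveI : Coh.IsQCoh m₁.G := m₁.qc
  haveI : Coh.IsQCoh m₂.G := m₂.qc
  obtain ⟨e, he⟩ := exists_fam_adj (N := (m₂.pull a).G) (D.map a) E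
  refine ⟨e, fun V hV x => Fam.ext_push (D.map a)
    (e.comp ((m₂.pull a).α.mono ((D.map a).preimage_mono h₂)))
    ((m₁.pull a).α.mono ((D.map a).preimage_mono h₁)) (fun P hP s hPa => ?_) V hV x⟩
  show (m₂.pull a).α.f (D.map a ⁻¹ᵁ P) ((D.map a).preimage_mono (hP.trans h₂))
      (e.f (D.map a ⁻¹ᵁ P) ((D.map a).preimage_mono hP) (pullSectLE (D.map a) m₁.G P _ le_rfl s)) =
    (m₁.pull a).α.f (D.map a ⁻¹ᵁ P) ((D.map a).preimage_mono (hP.trans h₁))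
      (pullSectLE (D.map a) m₁.G P _ le_rfl s)
  rw [Model.pull_α_pullSect m₁ a P (hP.trans h₁) s, ← Psi_spec m₁ m₂ h₁ h₂ P hP s, ← hE P hP s, m₂.h.nat,
    Fam.trans_apply, res_tr (hV := le_rfl) (e' := le_rfl), res_self, Model.pull_α]
  exact congrArg _ (congrArg _ (he P hP s))

/-- Pulling back a compatibility. -/
theorem exists_compat_pull {j k : I} {O U Q : (D.obj j).Opens} (m₁ : Model D c F j O) (m₂ : Model D c F j U)
    (h₁ : Q ≤ O) (h₂ : Q ≤ U) (e : Fam m₁.G m₂.G Q)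
    (he : ∀ V (hV : V ≤ Q) x, m₂.α.f V (hV.trans h₂) (e.f V hV x) = m₁.α.f V (hV.trans h₁) x) (a : k ⟶ j) :
    ∃ A : Fam (m₁.pull a).G (m₂.pull a).G (D.map a ⁻¹ᵁ Q),
      (∀ V (hV : V ≤ Q) s, A.f (D.map a ⁻¹ᵁ V) ((D.map a).preimage_mono hV) (pullSectLE (D.map a) m₁.G V _ le_rfl s) =
        pullSectLE (D.map a) m₂.G V _ le_rfl (e.f V hV s)) ∧
      ∀ V (hV : V ≤ D.map a ⁻¹ᵁ Q) x,
        (m₂.pull a).α.f V (hV.trans ((D.map a).preimage_mono h₂)) (A.f V hV x) =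
          (m₁.pull a).α.f V (hV.trans ((D.map a).preimage_mono h₁)) x := by
  haveI : Coh.IsQCoh m₁.G := m₁.qc
  haveI : Coh.IsQCoh m₂.G := m₂.qc
  obtain ⟨A, hA⟩ := exists_fam_pull (D.map a) e
  refine ⟨A, fun V hV s => hA V hV _ le_rfl s, fun V hV x => Fam.ext_push (D.map a)
    (A.comp ((m₂.pull a).α.mono ((D.map a).preimage_mono h₂)))
    ((m₁.pull a).α.mono ((D.map a).preimage_mono h₁)) (fun P hP s hPa => ?_) V hV x⟩
  show (m₂.pull a).α.f (D.map a ⁻¹ᵁ P) ((D.map a).preimage_mono (hP.trans h₂))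
      (A.f (D.map a ⁻¹ᵁ P) ((D.map a).preimage_mono hP) (pullSectLE (D.map a) m₁.G P _ le_rfl s)) =
    (m₁.pull a).α.f (D.map a ⁻¹ᵁ P) ((D.map a).preimage_mono (hP.trans h₁))
      (pullSectLE (D.map a) m₁.G P _ le_rfl s)
  rw [hA P hP _ le_rfl s, Model.pull_α_pullSect m₁ a P (hP.trans h₁) s,
    Model.pull_α_pullSect m₂ a P (hP.trans h₂), he]

/-- Composites of compatible families are killed in the limit. -/
lemma pullSect_comp_eq {j : I} {O U Q : (D.obj j).Opens} (m₁ : Model D c F j O) (m₂ : Model D c F j U)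
    (h₁ : Q ≤ O) (h₂ : Q ≤ U) (e : Fam m₁.G m₂.G Q) (e' : Fam m₂.G m₁.G Q)
    (he : ∀ V (hV : V ≤ Q) x, m₂.α.f V (hV.trans h₂) (e.f V hV x) = m₁.α.f V (hV.trans h₁) x)
    (he' : ∀ V (hV : V ≤ Q) x, m₁.α.f V (hV.trans h₁) (e'.f V hV x) = m₂.α.f V (hV.trans h₂) x)
    (V : (D.obj j).Opens) (hV : V ≤ Q) (z : Γ(m₁.G, V)) :
    pullSectLE (c.π.app j) m₁.G V _ le_rfl (e'.f V hV (e.f V hV z) - z) = 0 := by
  apply (m₁.bij _ ((c.π.app j).preimage_mono (hV.trans h₁))).1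
  rw [map_zero]
  show m₁.α.f V (hV.trans h₁) (e'.f V hV (e.f V hV z) - z) = 0
  rw [map_sub, he', he, sub_self]

include hc in
/-- A finite family of sections killed in the limit is killed at a stage. -/
theorem exists_pull_eq_zero {j : I} {G : (D.obj j).Modules} (hG : Coh.IsQCoh G) {ι : Type*} (s : Finset ι)
    (P : ι → (D.obj j).Opens) (hP : ∀ n, IsAffineOpen (P n)) (z : ∀ n, Γ(G, P n))
    (hz : ∀ n ∈ s, pullSectLE (c.π.app j) G (P n) _ le_rfl (z n) = 0) :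
    ∃ (k : I) (a : k ⟶ j), ∀ n ∈ s, pullSectLE (D.map a) G (P n) _ le_rfl (z n) = 0 := by
  haveI : Coh.IsQCoh G := hG
  obtain ⟨k, a, hk⟩ := exists_forall_tr_eq_zero D c hc G (𝟙 j) s P hP
    (fun n => pullSectLE (D.map (𝟙 j)) G (P n) _ le_rfl (z n))
    fun n hn => by rw [tr_pullSectLE (e' := le_rfl), hz n hn]
  refine ⟨k, a ≫ 𝟙 j, fun n hn => ?_⟩
  have := hk n hn
  rw [tr_pullSectLE (e' := le_rfl)] at this
  exact this

include hc in
set_option maxHeartbeats 1000000 in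
/-- Two models with mutually compatible comparison maps glue at a later stage. -/
theorem exists_model_of_compat {j : I} [CompactSpace (D.obj j)] [QuasiSeparatedSpace (D.obj j)]
    {O U : (D.obj j).Opens} (hO : IsCompact (O : Set (D.obj j))) (hU : IsCompact (U : Set (D.obj j)))
    (m₁ : Model D c F j O) (m₂ : Model D c F j U) (e : Fam m₁.G m₂.G (O ⊓ U)) (e' : Fam m₂.G m₁.G (O ⊓ U))
    (he : ∀ V (hV : V ≤ O ⊓ U) x, m₂.α.f V (hV.trans inf_le_right) (e.f V hV x) = m₁.α.f V (hV.trans inf_le_left) x)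
    (he' : ∀ V (hV : V ≤ O ⊓ U) x, m₁.α.f V (hV.trans inf_le_left) (e'.f V hV x) = m₂.α.f V (hV.trans inf_le_right) x) :
    ∃ (k : I) (a : k ⟶ j), Nonempty (Model D c F k (D.map a ⁻¹ᵁ (O ⊔ U))) := by
  classical
  haveI : Coh.IsQCoh m₁.G := m₁.qc
  haveI : Coh.IsQCoh m₂.G := m₂.qc
  obtain ⟨t, htQ, ht⟩ := exists_affine_pieces (Q := O ⊓ U)
    (QuasiSeparatedSpace.inter_isCompact _ _ O.2 hO U.2 hU)
  have hgen₁ : ∀ P : t, ∃ T : Finset Γ(m₁.G, P.1.1), Submodule.span Γ(D.obj j, P.1.1) (T : Set Γ(m₁.G, P.1.1)) = ⊤ :=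
    fun P => haveI := m₁.fp.finitePresentation m₁.qc P.1.2 ((htQ P.1 P.2).trans inf_le_left); Module.Finite.fg_top
  have hgen₂ : ∀ P : t, ∃ T : Finset Γ(m₂.G, P.1.1), Submodule.span Γ(D.obj j, P.1.1) (T : Set Γ(m₂.G, P.1.1)) = ⊤ :=
    fun P => haveI := m₂.fp.finitePresentation m₂.qc P.1.2 ((htQ P.1 P.2).trans inf_le_right); Module.Finite.fg_top
  choose T₁ hT₁ using hgen₁
  choose T₂ hT₂ using hgen₂
  obtain ⟨k₁, a₁, hk₁⟩ := exists_pull_eq_zero hc m₁.qc ((Finset.univ : Finset t).sigma fun P => T₁ P)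
    (fun n => n.1.1.1) (fun n => n.1.1.2)
    (fun n => e'.f _ (htQ n.1.1 n.1.2) (e.f _ (htQ n.1.1 n.1.2) n.2) - n.2)
    (fun n _ => pullSect_comp_eq m₁ m₂ (inf_le_left : O ⊓ U ≤ O) inf_le_right e e' he he' _ (htQ n.1.1 n.1.2) n.2)
  obtain ⟨k₂, a₂, hk₂⟩ := exists_pull_eq_zero hc m₂.qc ((Finset.univ : Finset t).sigma fun P => T₂ P)
    (fun n => n.1.1.1) (fun n => n.1.1.2)
    (fun n => e.f _ (htQ n.1.1 n.1.2) (e'.f _ (htQ n.1.1 n.1.2) n.2) - n.2)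
    (fun n _ => pullSect_comp_eq m₂ m₁ (inf_le_right : O ⊓ U ≤ U) inf_le_left e' e he' he _ (htQ n.1.1 n.1.2) n.2)
  obtain ⟨k, b₁, b₂, hb⟩ := IsCofiltered.cospan a₁ a₂
  refine ⟨k, b₁ ≫ a₁, ?_⟩
  generalize hr : b₁ ≫ a₁ = r at hb ⊢
  have kill : ∀ {G : (D.obj j).Modules} {k' : I} (a' : k' ⟶ j) (b' : k ⟶ k'), b' ≫ a' = r →
      ∀ (V : (D.obj j).Opens) (z : Γ(G, V)), pullSectLE (D.map a') G V _ le_rfl z = 0 →
      pullSectLE (D.map r) G V _ le_rfl z = 0 := by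
    intro G k' a' b' hb' V z hz
    have hw : D.map b' ≫ D.map a' = (D.map r) := by rw [← D.map_comp, hb']
    rw [← tr_pullSectLE (D.map b') (D.map a') hw G le_rfl (preimage_le_of_comp _ _ hw V) le_rfl, hz, map_zero]
  obtain ⟨A, hA, hAc⟩ := exists_compat_pull m₁ m₂ inf_le_left inf_le_right e he r
  obtain ⟨B, hB, -⟩ := exists_compat_pull m₂ m₁ inf_le_right inf_le_left e' he' r
  let unit₁ : Fam m₁.G ((Scheme.Modules.pushforward (D.map r)).obj ((Scheme.Modules.pullback (D.map r)).obj m₁.G)) (O ⊓ U) :=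
    Fam.push (D.map r) (Fam.ofHom (𝟙 _) _)
  let unit₂ : Fam m₂.G ((Scheme.Modules.pushforward (D.map r)).obj ((Scheme.Modules.pullback (D.map r)).obj m₂.G)) (O ⊓ U) :=
    Fam.push (D.map r) (Fam.ofHom (𝟙 _) _)
  have hbij : ∀ W hW, Function.Bijective (A.f W hW) := by
    refine bijective_of_pull_inverse (D.map r) A B (fun V hV s _ => ?_) (fun V hV s _ => ?_)
    · refine (congrArg (B.f _ _) (hA V hV s)).trans ((hB V hV _).trans ?_)
      refine Fam.eq_of_pieces ((e.comp e').comp unit₁) unit₁ (fun x hx => ?_) V hV s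
      obtain ⟨P, hP, hxP⟩ := ht x hx
      refine ⟨P.1, P.2, htQ P hP, _, hxP, hT₁ ⟨P, hP⟩, fun z hz => ?_⟩
      have := kill a₁ b₁ hr P.1 _ (hk₁ ⟨⟨P, hP⟩, z⟩ (Finset.mem_sigma.2 ⟨Finset.mem_univ _, hz⟩))
      rw [map_sub, sub_eq_zero] at this
      exact this
    · refine (congrArg (A.f _ _) (hB V hV s)).trans ((hA V hV _).trans ?_)
      refine Fam.eq_of_pieces ((e'.comp e).comp unit₂) unit₂ (fun x hx => ?_) V hV s
      obtain ⟨P, hP, hxP⟩ := ht x hx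
      refine ⟨P.1, P.2, htQ P hP, _, hxP, hT₂ ⟨P, hP⟩, fun z hz => ?_⟩
      have := kill a₂ b₂ hb.symm P.1 _ (hk₂ ⟨⟨P, hP⟩, z⟩ (Finset.mem_sigma.2 ⟨Finset.mem_univ _, hz⟩))
      rw [map_sub, sub_eq_zero] at this
      exact this
  haveI := compactSpace_stage D r
  haveI := qs_stage r (D := D)
  let M₁ := m₁.pull r
  let M₂ := m₂.pull r
  haveI : Coh.IsQCoh M₁.G := M₁.qc
  haveI : Coh.IsQCoh M₂.G := M₂.qc
  obtain ⟨G, hG, p₁, p₂, hp₁, hp₂, hp⟩ := exists_glue_two (O := (D.map r) ⁻¹ᵁ O) (U := (D.map r) ⁻¹ᵁ U)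
    ((D.map r).isCompact_preimage hO) ((D.map r).isCompact_preimage hU) (A.mono (le_refl ((D.map r) ⁻¹ᵁ (O ⊓ U)))) hbij
  let ps : ∀ i : ULift.{u} Bool, Fam G ((Scheme.Modules.pushforward (c.π.app k)).obj F)
      (cond i.down ((D.map r) ⁻¹ᵁ O) ((D.map r) ⁻¹ᵁ U)) := fun i => match i with
    | ⟨true⟩ => p₁.comp M₁.α
    | ⟨false⟩ => p₂.comp M₂.α
  have hsub : ∀ i : ULift.{u} Bool, cond i.down ((D.map r) ⁻¹ᵁ O) ((D.map r) ⁻¹ᵁ U) ≤ (D.map r) ⁻¹ᵁ (O ⊔ U) := by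
    rintro ⟨⟨⟩⟩
    · exact (D.map r).preimage_mono le_sup_right
    · exact (D.map r).preimage_mono le_sup_left
  have key : ∀ V (h₁ : V ≤ (D.map r) ⁻¹ᵁ O) (h₂ : V ≤ (D.map r) ⁻¹ᵁ U) s,
      M₂.α.f V h₂ (p₂.f V h₂ s) = M₁.α.f V h₁ (p₁.f V h₁ s) := fun V h₁ h₂ s =>
    (congrArg (M₂.α.f V h₂) (hp V (le_inf h₁ h₂) s)).symm.trans (hAc V (le_inf h₁ h₂) _)
  obtain ⟨α, hα⟩ := exists_fam_of_local (Q := (D.map r) ⁻¹ᵁ (O ⊔ U)) (fun i : ULift.{u} Bool => cond i.down ((D.map r) ⁻¹ᵁ O) ((D.map r) ⁻¹ᵁ U))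
    hsub (fun x hx => by
      rcases (show (D.map r) x ∈ O ⊔ U from hx) with h | h
      · exact ⟨⟨true⟩, h⟩
      · exact ⟨⟨false⟩, h⟩) ps (fun i i' x hx => by
      obtain ⟨P, hP, hxP, hPi⟩ := exists_isAffineOpen_mem_and_subset hx
      refine ⟨P, hP, Set.univ, fun z hz => (hPi hz).1, fun z hz => (hPi hz).2, hxP, Submodule.span_univ,
        fun z _ => ?_⟩
      rcases i with ⟨⟨⟩⟩ <;> rcases i' with ⟨⟨⟩⟩
      · rfl
      · exact key P (fun z hz => (hPi hz).2) (fun z hz => (hPi hz).1) z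
      · exact (key P (fun z hz => (hPi hz).1) (fun z hz => (hPi hz).2) z).symm
      · rfl)
  haveI := isAffineHom_π_app D c hc k
  obtain ⟨h, hh⟩ := exists_fam_adj (N := F) (c.π.app k) α
  refine ⟨⟨G, hG, fpOn_of_finitePresentation hG fun x hx => ?_, h, fun W hW => h.bijective_of_local (fun x hx => ?_) W hW⟩⟩
  · rcases (show (D.map r) x ∈ O ⊔ U from hx) with hx' | hx'
    · obtain ⟨V, hV, hxV, hVO⟩ := exists_isAffineOpen_mem_and_subset (show x ∈ (D.map r) ⁻¹ᵁ O from hx')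
      haveI := M₁.fp.finitePresentation M₁.qc hV hVO
      exact ⟨V, hV, hxV, Module.FinitePresentation.of_equiv (LinearEquiv.ofBijective _ (hp₁ V hVO)).symm⟩
    · obtain ⟨V, hV, hxV, hVO⟩ := exists_isAffineOpen_mem_and_subset (show x ∈ (D.map r) ⁻¹ᵁ U from hx')
      haveI := M₂.fp.finitePresentation M₂.qc hV hVO
      exact ⟨V, hV, hxV, Module.FinitePresentation.of_equiv (LinearEquiv.ofBijective _ (hp₂ V hVO)).symm⟩
  · have main : ∀ (O' : (D.obj k).Opens) (hO' : O' ≤ (D.map r) ⁻¹ᵁ (O ⊔ U)) (M : Model D c F k O') (p : Fam G M.G O'),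
        (∀ V hV, Function.Bijective (p.f V hV)) →
        (∀ V (hV : V ≤ O') s, α.f V (hV.trans hO') s = M.α.f V hV (p.f V hV s)) →
        ∀ W (hW : W ≤ c.π.app k ⁻¹ᵁ O'),
          Function.Bijective (h.f W (hW.trans ((c.π.app k).preimage_mono hO'))) := by
      intro O' hO' M p hp' hαp W hW
      haveI : Coh.IsQCoh M.G := M.qc
      obtain ⟨A', hA', hA''⟩ := exists_fam_pull_bijective (c.π.app k) p hp'
      have heq : ∀ t, h.f W (hW.trans ((c.π.app k).preimage_mono hO')) t = M.h.f W hW (A'.f W hW t) :=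
        Fam.ext_push (c.π.app k) (h.mono ((c.π.app k).preimage_mono hO')) (A'.comp M.h) (fun V hV s hVa => by
          show (h.push (c.π.app k)).f V (hV.trans hO') s = _
          rw [hh, hαp V hV s]
          show M.α.f V hV (p.f V hV s) = M.h.f _ _ (A'.f _ _ (pullSectLE (c.π.app k) G V _ le_rfl s))
          rw [hA'']
          rfl) W hW
      rw [show ⇑(h.f W (hW.trans ((c.π.app k).preimage_mono hO'))) = M.h.f W hW ∘ A'.f W hW from funext heq]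
      exact (M.bij W hW).comp (hA' W hW)
    rcases (show (D.map r) (c.π.app k x) ∈ O ⊔ U from hx) with hx' | hx'
    · exact ⟨c.π.app k ⁻¹ᵁ ((D.map r) ⁻¹ᵁ O), hx', (c.π.app k).preimage_mono (hsub ⟨true⟩),
        fun W hW => main _ (hsub ⟨true⟩) M₁ p₁ hp₁ (fun V hV s => hα ⟨true⟩ V hV s) W hW⟩
    · exact ⟨c.π.app k ⁻¹ᵁ ((D.map r) ⁻¹ᵁ U), hx', (c.π.app k).preimage_mono (hsub ⟨false⟩),
        fun W hW => main _ (hsub ⟨false⟩) M₂ p₂ hp₂ (fun V hV s => hα ⟨false⟩ V hV s) W hW⟩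

include hc in
/-- Models on two quasi-compact opens glue at a later stage. -/
theorem exists_model_sup {j : I} [CompactSpace (D.obj j)] [QuasiSeparatedSpace (D.obj j)]
    {O U : (D.obj j).Opens} (hO : IsCompact (O : Set (D.obj j))) (hU : IsCompact (U : Set (D.obj j)))
    (m₁ : Model D c F j O) (m₂ : Model D c F j U) :
    ∃ (k : I) (a : k ⟶ j), Nonempty (Model D c F k (D.map a ⁻¹ᵁ (O ⊔ U))) := by
  have hQ : IsCompact ((O ⊓ U : (D.obj j).Opens) : Set (D.obj j)) :=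
    QuasiSeparatedSpace.inter_isCompact _ _ O.2 hO U.2 hU
  obtain ⟨k₁, a₁, E₁, hE₁⟩ := exists_stage_psi hc hQ m₁ m₂ inf_le_left inf_le_right
  obtain ⟨k₂, a₂, E₂, hE₂⟩ := exists_stage_psi hc hQ m₂ m₁ inf_le_right inf_le_left
  obtain ⟨k, b₁, b₂, hb⟩ := IsCofiltered.cospan a₁ a₂
  obtain ⟨e, he⟩ := exists_compat m₁ m₂ inf_le_left inf_le_right (b₁ ≫ a₁) _
    (psi_later m₁ m₂ inf_le_left inf_le_right a₁ E₁ hE₁ b₁ rfl)
  obtain ⟨e', he'⟩ := exists_compat m₂ m₁ inf_le_right inf_le_left (b₁ ≫ a₁) _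
    (psi_later m₂ m₁ inf_le_right inf_le_left a₂ E₂ hE₂ b₂ hb.symm)
  haveI := compactSpace_stage D (b₁ ≫ a₁)
  haveI := qs_stage (b₁ ≫ a₁) (D := D)
  obtain ⟨l, a, ⟨M⟩⟩ := exists_model_of_compat hc ((D.map (b₁ ≫ a₁)).isCompact_preimage hO)
    ((D.map (b₁ ≫ a₁)).isCompact_preimage hU) (m₁.pull _) (m₂.pull _) e e' he he'
  refine ⟨l, a ≫ b₁ ≫ a₁, ⟨?_⟩⟩
  have heq : D.map a ⁻¹ᵁ (D.map (b₁ ≫ a₁) ⁻¹ᵁ O ⊔ D.map (b₁ ≫ a₁) ⁻¹ᵁ U) =
      D.map (a ≫ b₁ ≫ a₁) ⁻¹ᵁ (O ⊔ U) := by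
    rw [D.map_comp a (b₁ ≫ a₁)]
    rfl
  exact heq ▸ M

end Groth.Agent.ModDesc
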