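import Mathlib
import Groth.Agent.ModDesc.Step

/-!
# Finitely presented modules descend along limits
-/

universe u

open CategoryTheory CategoryTheory.Limits AlgebraicGeometry TopologicalSpace Opposite TensorProduct

set_option backward.isDefEq.respectTransparency false
set_option linter.style.haveILetI false
set_option linter.unusedSectionVars false

noncomputable section

namespace Groth.Agent.ModDesc

open Groth.Agent.QC

/-- Base change of a presented module. -/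
theorem exists_baseChange_iso {A B N : Type u} [CommRing A] [CommRing B] [Algebra A B] [AddCommGroup N]
    [Module B N] {n : ℕ} (K : Submodule B (Fin n → B)) (e : N ≃ₗ[B] (Fin n → B) ⧸ K) (S : Submodule A (Fin n → A))
    (hK : Submodule.span B ((fun x i => algebraMap A B (x i)) '' (S : Set (Fin n → A))) = K) :
    Nonempty (B ⊗[A] ((Fin n → A) ⧸ S) ≃ₗ[B] N) := by
  classical
  let ι : (Fin n → A) →ₗ[A] (Fin n → B) := (Algebra.linearMap A B).compLeft (Fin n)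
  have hS : S ≤ LinearMap.ker ((K.mkQ.restrictScalars A) ∘ₗ ι) := fun x hx => by
    refine (Submodule.Quotient.mk_eq_zero K).2 ?_
    rw [← hK]
    exact Submodule.subset_span ⟨x, hx, rfl⟩
  let f : B ⊗[A] ((Fin n → A) ⧸ S) →ₗ[B] (Fin n → B) ⧸ K :=
    (S.liftQ ((K.mkQ.restrictScalars A) ∘ₗ ι) hS).liftBaseChange B
  let g₀ : (Fin n → B) →ₗ[B] B ⊗[A] ((Fin n → A) ⧸ S) :=
    (Pi.basisFun B (Fin n)).constr B fun i => (1 : B) ⊗ₜ S.mkQ (Pi.single i 1)
  have hg₀ : ∀ x : Fin n → A, g₀ (ι x) = (1 : B) ⊗ₜ S.mkQ x := by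
    have : (g₀.restrictScalars A) ∘ₗ ι = (TensorProduct.mk A B _ 1) ∘ₗ S.mkQ :=
      (Pi.basisFun A (Fin n)).ext fun i => by
        rw [Pi.basisFun_apply]
        show g₀ (ι (Pi.single i 1)) = _
        have : ι (Pi.single i 1) = Pi.single i 1 := by
          ext k
          show algebraMap A B ((Pi.single i 1 : Fin n → A) k) = _
          rcases eq_or_ne k i with rfl | h <;> simp_all
        rw [this, ← Pi.basisFun_apply, Module.Basis.constr_basis]
        rfl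
    exact fun x => LinearMap.congr_fun this x
  have hKg : K ≤ LinearMap.ker g₀ := by
    rw [← hK, Submodule.span_le]
    rintro _ ⟨x, hx, rfl⟩
    show g₀ (ι x) = 0
    rw [hg₀, show S.mkQ x = 0 from (Submodule.Quotient.mk_eq_zero S).2 hx, TensorProduct.tmul_zero]
  let g := K.liftQ g₀ hKg
  have h₁ : f.comp g = LinearMap.id := by
    refine Submodule.linearMap_qext _ ((Pi.basisFun B (Fin n)).ext fun i => ?_)
    show f (g₀ _) = K.mkQ _
    rw [Module.Basis.constr_basis]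
    show f ((1 : B) ⊗ₜ S.mkQ (Pi.single i 1)) = _
    rw [LinearMap.liftBaseChange_tmul, one_smul]
    show K.mkQ (ι (Pi.single i 1)) = _
    congr 1
    ext k
    show algebraMap A B ((Pi.single i 1 : Fin n → A) k) = _
    rcases eq_or_ne k i with rfl | h <;> simp_all [Pi.basisFun_apply]
  have h₂ : g.comp f = LinearMap.id := by
    refine TensorProduct.AlgebraTensorModule.ext fun b x => ?_
    obtain ⟨y, rfl⟩ := S.mkQ_surjective x
    show g (f (b ⊗ₜ S.mkQ y)) = b ⊗ₜ S.mkQ y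
    rw [LinearMap.liftBaseChange_tmul, map_smul]
    show b • g₀ (ι y) = _
    rw [hg₀, smul_tmul', smul_eq_mul, mul_one]
  exact ⟨({ f with invFun := g, left_inv := LinearMap.congr_fun h₂, right_inv := LinearMap.congr_fun h₁ } :
    B ⊗[A] ((Fin n → A) ⧸ S) ≃ₗ[B] (Fin n → B) ⧸ K).trans e.symm⟩

/-- A module over the functions of an affine open is the sections of a quasi-coherent module. -/
theorem exists_qcoh_sections {X : Scheme.{u}} [QuasiSeparatedSpace X] {V : X.Opens} (hV : IsAffineOpen V)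
    (M : ModuleCat.{u} Γ(X, V)) :
    ∃ (G : X.Modules) (_ : Coh.IsQCoh G), Nonempty (Γ(G, V) ≃ₗ[Γ(X, V)] M) := by
  haveI : (tilde M).IsQuasicoherent := isQCoh_tilde _
  let G : X.Modules := (Scheme.Modules.pushforward hV.fromSpec).obj (tilde M)
  have hbij : ∀ O : (Spec Γ(X, V)).Opens, O = ⊤ → Function.Bijective (tilde.toOpen M O) := by
    rintro O rfl
    exact ConcreteCategory.bijective_of_isIso _
  let L : M →ₗ[Γ(X, V)] Γ(G, V) :=
    { toFun := fun x => tilde.toOpen M (hV.fromSpec ⁻¹ᵁ V) x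
      map_add' := fun a b => map_add (tilde.toOpen M (hV.fromSpec ⁻¹ᵁ V)).hom a b
      map_smul' := fun r x => by
        refine ((tilde.toOpen M (hV.fromSpec ⁻¹ᵁ V)).hom.map_smul r x).trans ?_
        refine (Scheme.Modules.smul_Spec_def r _).trans ?_
        let y : Γ(tilde M, hV.fromSpec ⁻¹ᵁ V) := tilde.toOpen M (hV.fromSpec ⁻¹ᵁ V) x
        show _ • y = (hV.fromSpec.app V).hom r • y
        rw [hV.fromSpec_app_self]
        congr 1 }
  exact ⟨G, isQCoh_pushforward hV.fromSpec,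
    ⟨(LinearEquiv.ofBijective L (hbij _ hV.fromSpec_preimage_self)).symm⟩⟩

variable {I : Type u} [SmallCategory I] [IsCofiltered I] {D : I ⥤ Scheme.{u}} {c : Cone D} (hc : IsLimit c)
  [∀ {i j : I} (f : i ⟶ j), IsAffineHom (D.map f)] {F : c.pt.Modules} [Coh.IsQCoh F] (hF : CohB1.IsFP F) {i₀ : I}

include hc hF in
/-- Models exist on affine opens. -/
theorem exists_model_affine [QuasiSeparatedSpace (D.obj i₀)] {U : (D.obj i₀).Opens} (hU : IsAffineOpen U) :
    ∃ (k : I) (φ : k ⟶ i₀), Nonempty (Model D c F k (D.map φ ⁻¹ᵁ U)) := by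
  classical
  have hW : IsAffineOpen (c.π.app i₀ ⁻¹ᵁ U) := isAffineOpen_preimage_π D c hc hU
  let W := c.π.app i₀ ⁻¹ᵁ U
  haveI : Module.FinitePresentation Γ(c.pt, W) Γ(F, W) :=
    LocFree.finitePresentation_sections_of_isFP (M := F) inferInstance hF hW
  obtain ⟨n, K, e, hK⟩ := Module.FinitePresentation.exists_fin Γ(c.pt, W) Γ(F, W)
  obtain ⟨R, hR⟩ := hK
  let P : ∀ (_ : (Fin n → Γ(c.pt, W)) × Fin n) (k : I), (k ⟶ i₀) → Prop := fun ri k φ =>
    ∃ t : Γ(D.obj k, D.map φ ⁻¹ᵁ U),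
      ((c.π.app k).appLE (D.map φ ⁻¹ᵁ U) W (preimage_le_of_stage D c φ U)).hom t = ri.1 ri.2
  obtain ⟨k, φ, hk⟩ := exists_later (R ×ˢ (Finset.univ : Finset (Fin n))) P
    (fun ri k φ l b ⟨t, ht⟩ => ⟨((D.map b).appLE (D.map φ ⁻¹ᵁ U) _ (preimage_le_of_map D φ b U)).hom t, by
      rw [← ht]
      show (_ ≫ (c.π.app l).appLE _ _ _).hom t = _
      rw [Scheme.Hom.appLE_comp_appLE]
      congr 3
      exact c.w b⟩)
    (fun ri _ => by
      obtain ⟨k, a, t, h, ht⟩ := exists_appLE_eq D c hc hU (ri.1 ri.2)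
      exact ⟨k, a, t, ht⟩)
  haveI := qs_stage φ (D := D)
  let V := D.map φ ⁻¹ᵁ U
  have hV : IsAffineOpen V := hU.preimage _
  have eW : W ≤ c.π.app k ⁻¹ᵁ V := preimage_le_of_stage D c φ U
  letI : Algebra Γ(D.obj k, V) Γ(c.pt, W) := ((c.π.app k).appLE V W eW).hom.toAlgebra
  have hlift : ∀ r : R, ∃ x : Fin n → Γ(D.obj k, V), (fun i => algebraMap Γ(D.obj k, V) Γ(c.pt, W) (x i)) = r.1 := by
    intro r
    choose x hx using fun i => hk (r.1, i) (Finset.mem_product.2 ⟨r.2, Finset.mem_univ i⟩)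
    exact ⟨x, funext hx⟩
  choose x hx using hlift
  let S := Submodule.span Γ(D.obj k, V) (Set.range x)
  have hspan : Submodule.span Γ(c.pt, W)
      ((fun x i => algebraMap Γ(D.obj k, V) Γ(c.pt, W) (x i)) '' (S : Set (Fin n → Γ(D.obj k, V)))) = K := by
    refine le_antisymm (Submodule.span_le.2 ?_) (hR ▸ Submodule.span_le.2 fun r hr =>
      Submodule.subset_span ⟨x ⟨r, hr⟩, Submodule.subset_span ⟨_, rfl⟩, hx ⟨r, hr⟩⟩)
    rintro _ ⟨y, hy, rfl⟩
    have : S ≤ (K.restrictScalars Γ(D.obj k, V)).comap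
        ((Algebra.linearMap Γ(D.obj k, V) Γ(c.pt, W)).compLeft (Fin n)) := Submodule.span_le.2 (by
      rintro _ ⟨r, rfl⟩
      show (fun i => algebraMap Γ(D.obj k, V) Γ(c.pt, W) (x r i)) ∈ K
      rw [hx, ← hR]
      exact Submodule.subset_span r.2)
    exact this hy
  obtain ⟨Φ₁⟩ := exists_baseChange_iso K e S hspan
  haveI : Module.FinitePresentation Γ(D.obj k, V) ((Fin n → Γ(D.obj k, V)) ⧸ S) :=
    Module.finitePresentation_of_surjective S.mkQ S.mkQ_surjective (by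
      rw [Submodule.ker_mkQ]; exact Submodule.fg_span (Set.finite_range x))
  obtain ⟨G, hG, ⟨eG⟩⟩ := exists_qcoh_sections hV (ModuleCat.of Γ(D.obj k, V) ((Fin n → Γ(D.obj k, V)) ⧸ S))
  haveI : Module.FinitePresentation Γ(D.obj k, V) Γ(G, V) := Module.FinitePresentation.of_equiv eG.symm
  haveI : Coh.IsQCoh ((Scheme.Modules.pullback (c.π.app k)).obj G) := isQCoh_pullback _ hG
  haveI : Coh.IsQCoh G := hG
  obtain ⟨Φ, -⟩ := exists_bijective_liftBaseChange (X := c.pt) (c.π.app k) G hV hW eW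
  obtain ⟨h, -, hh⟩ := exists_bijective_fam (N := F) hW
    (Φ.symm.trans ((LinearEquiv.baseChange Γ(D.obj k, V) Γ(c.pt, W) _ _ eG).trans Φ₁))
  have hle : c.π.app k ⁻¹ᵁ V ≤ W := (congr($(c.w φ) ⁻¹ᵁ U)).le
  exact ⟨k, φ, ⟨⟨G, hG, fpOn_of_finitePresentation hG fun y hy => ⟨V, hV, hy, inferInstance⟩, h.mono hle,
    fun O hO => hh O (hO.trans hle)⟩⟩⟩

include hc hF in
/-- Models exist on finite unions of affine opens. -/
theorem exists_model_finset [CompactSpace (D.obj i₀)] [QuasiSeparatedSpace (D.obj i₀)]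
    (t : Finset (D.obj i₀).affineOpens) (ht : t.Nonempty) :
    ∃ (k : I) (φ : k ⟶ i₀), Nonempty (Model D c F k (D.map φ ⁻¹ᵁ (t.sup fun U => U.1))) := by
  classical
  induction ht using Finset.Nonempty.cons_induction with
  | singleton U => rw [Finset.sup_singleton]; exact exists_model_affine hc hF U.2
  | cons U t hU ht ih =>
    obtain ⟨k₁, φ₁, ⟨m₁⟩⟩ := ih
    obtain ⟨k₂, φ₂, ⟨m₂⟩⟩ := exists_model_affine hc hF U.2
    obtain ⟨k, a₁, a₂, ha⟩ := IsCofiltered.cospan φ₁ φ₂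
    haveI := compactSpace_stage D (a₁ ≫ φ₁)
    haveI := qs_stage (a₁ ≫ φ₁) (D := D)
    have e₁ : D.map a₁ ⁻¹ᵁ (D.map φ₁ ⁻¹ᵁ t.sup fun U => U.1) = D.map (a₁ ≫ φ₁) ⁻¹ᵁ t.sup fun U => U.1 := by
      rw [D.map_comp]; rfl
    have e₂ : D.map a₂ ⁻¹ᵁ (D.map φ₂ ⁻¹ᵁ U.1) = D.map (a₁ ≫ φ₁) ⁻¹ᵁ U.1 := by
      rw [ha, D.map_comp]; rfl
    have hcpt : IsCompact ((t.sup fun U => U.1 : (D.obj i₀).Opens) : Set (D.obj i₀)) := by
      refine Finset.sup_induction (p := fun O : (D.obj i₀).Opens => IsCompact (O : Set (D.obj i₀))) ?_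
        (fun A hA B hB => ?_) fun U _ => U.2.isCompact
      · simp
      · rw [Opens.coe_sup]; exact hA.union hB
    obtain ⟨l, a, ⟨M⟩⟩ := exists_model_sup hc ((D.map (a₁ ≫ φ₁)).isCompact_preimage U.2.isCompact)
      ((D.map (a₁ ≫ φ₁)).isCompact_preimage hcpt) (e₂ ▸ m₂.pull a₂) (e₁ ▸ m₁.pull a₁)
    refine ⟨l, a ≫ a₁ ≫ φ₁, ⟨?_⟩⟩
    have e₃ : D.map a ⁻¹ᵁ (D.map (a₁ ≫ φ₁) ⁻¹ᵁ U.1 ⊔ D.map (a₁ ≫ φ₁) ⁻¹ᵁ t.sup fun U => U.1) =
        D.map (a ≫ a₁ ≫ φ₁) ⁻¹ᵁ (Finset.cons U t hU).sup fun U => U.1 := by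
      rw [Finset.sup_cons, D.map_comp a (a₁ ≫ φ₁)]
      rfl
    exact e₃ ▸ M

include hc hF in
/-- A finitely presented quasi-coherent module on the limit comes from a stage. -/
theorem exists_descend [CompactSpace (D.obj i₀)] [QuasiSeparatedSpace (D.obj i₀)] :
    ∃ (i : I) (_ : i ⟶ i₀) (G : (D.obj i).Modules), Coh.IsQCoh G ∧ CohB1.IsFP G ∧
      Nonempty ((Scheme.Modules.pullback (c.π.app i)).obj G ≅ F) := by
  classical
  obtain ⟨t₀, ht₀⟩ := exists_finite_cover (D.obj i₀)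
  let t := insert (⟨⊥, isAffineOpen_bot (D.obj i₀)⟩ : (D.obj i₀).affineOpens) t₀
  obtain ⟨k, φ, ⟨m⟩⟩ := exists_model_finset hc hF t (Finset.insert_nonempty _ _)
  have htop : ∀ x, x ∈ t.sup fun U => U.1 := fun x => by
    obtain ⟨U, hU, hx⟩ := ht₀ x
    exact (Finset.le_sup (f := fun U : (D.obj i₀).affineOpens => U.1) (Finset.mem_insert_of_mem hU)) hx
  have hO : ∀ y, y ∈ D.map φ ⁻¹ᵁ t.sup fun U => U.1 := fun y => htop _
  haveI : Coh.IsQCoh ((Scheme.Modules.pullback (c.π.app k)).obj m.G) := isQCoh_pullback _ m.qc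
  refine ⟨k, φ, m.G, m.qc, isFP_iff_exists_hasFinPres.2 fun x => m.fp x (hO x), ?_⟩
  have hle : ∀ W : c.pt.Opens, W ≤ c.π.app k ⁻¹ᵁ (D.map φ ⁻¹ᵁ t.sup fun U => U.1) := fun W x _ => hO _
  obtain ⟨h, hh⟩ := exists_hom_of_fam (N := F) (fun _ : PUnit.{u+1} => c.π.app k ⁻¹ᵁ (D.map φ ⁻¹ᵁ t.sup fun U => U.1))
    (fun x => ⟨⟨⟩, hO _⟩) (fun _ => m.h) (fun _ _ x hx => by
      obtain ⟨P, hP, hxP, hPi⟩ := exists_isAffineOpen_mem_and_subset (U := (⊤ : c.pt.Opens)) (x := x) trivial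
      exact ⟨P, hP, Set.univ, hle P, hle P, hxP, Submodule.span_univ, fun _ _ => rfl⟩)
  haveI : IsIso h := ZCl.isIso_of_bijective h fun W => by
    rw [show ⇑(h.app W).hom = m.h.f W (hle W) from funext (hh ⟨⟩ W (hle W))]
    exact m.bij W (hle W)
  exact ⟨asIso h⟩

end Groth.Agent.ModDesc
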