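import Mathlib
import Groth.Agent.ModDesc.FamOps
import Groth.Agent.LocFree.SemiLocal

/-!
# Finite local freeness descends to a stage
-/

universe u

open CategoryTheory CategoryTheory.Limits AlgebraicGeometry TopologicalSpace Opposite TensorProduct

set_option backward.isDefEq.respectTransparency false
set_option linter.style.haveILetI false
set_option linter.unusedSectionVars false

noncomputable section

namespace Groth.Agent.ModDesc

open Groth.Agent.QC

variable {I : Type u} [SmallCategory I] [IsCofiltered I] (D : I ⥤ Scheme.{u}) (c : Cone D) (hc : IsLimit c)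
  [∀ {i j : I} (f : i ⟶ j), IsAffineHom (D.map f)] {i₀ : I}

include hc in
/-- A function killed in the limit is killed at a stage. -/
theorem exists_appLE_eq_zero {j : I} {V : (D.obj j).Opens} (hV : IsAffineOpen V) {W : c.pt.Opens}
    (e : W ≤ c.π.app j ⁻¹ᵁ V) (hW : c.π.app j ⁻¹ᵁ V ≤ W) (t : Γ(D.obj j, V))
    (h : ((c.π.app j).appLE V W e).hom t = 0) :
    ∃ (k : I) (a : k ⟶ j), ((D.map a).app V).hom t = 0 := by
  refine exists_app_map_eq_zero_of_isLimit D c hc hV.isCompact t ?_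
  obtain rfl : W = c.π.app j ⁻¹ᵁ V := le_antisymm e hW
  rw [Scheme.Hom.app_eq_appLE]
  exact h

include hc in
set_option maxHeartbeats 1000000 in
/-- Projectivity of the sections over an affine open descends to a stage. -/
theorem exists_projective_stage {F : (D.obj i₀).Modules} [Coh.IsQCoh F] {U : (D.obj i₀).Opens}
    (hU : IsAffineOpen U) [Module.FinitePresentation Γ(D.obj i₀, U) Γ(F, U)]
    [hP : Module.Projective Γ(c.pt, c.π.app i₀ ⁻¹ᵁ U)
      Γ((Scheme.Modules.pullback (c.π.app i₀)).obj F, c.π.app i₀ ⁻¹ᵁ U)] :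
    ∃ (k : I) (φ : k ⟶ i₀), ∀ {l : I} (b : l ⟶ k),
      Module.Projective Γ(D.obj l, D.map (b ≫ φ) ⁻¹ᵁ U)
        Γ((Scheme.Modules.pullback (D.map (b ≫ φ))).obj F, D.map (b ≫ φ) ⁻¹ᵁ U) := by
  classical
  let A := Γ(D.obj i₀, U)
  let W := c.π.app i₀ ⁻¹ᵁ U
  have hW : IsAffineOpen W := isAffineOpen_preimage_π D c hc hU
  obtain ⟨n, K, e, hK⟩ := Module.FinitePresentation.exists_fin A Γ(F, U)
  obtain ⟨R, hR⟩ := hK
  let x : Fin n → Γ(F, U) := fun i => e.symm (K.mkQ (Pi.single i 1))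
  have hπ : ∀ r : Fin n → A, e.symm (K.mkQ r) = ∑ i, r i • x i := fun r => by
    conv_lhs => rw [pi_eq_sum_univ' r]
    simp [x, map_sum]
  have hx : Submodule.span A (Set.range x) = ⊤ := eq_top_iff.2 fun m _ => by
    obtain ⟨r, hr⟩ := K.mkQ_surjective (e m)
    rw [show m = ∑ i, r i • x i by rw [← hπ, hr, LinearEquiv.symm_apply_apply]]
    exact Submodule.sum_mem _ fun i _ => Submodule.smul_mem _ _ (Submodule.subset_span ⟨i, rfl⟩)
  let g : Fin n → Γ((Scheme.Modules.pullback (c.π.app i₀)).obj F, W) := fun i =>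
    pullSectLE (c.π.app i₀) F U W le_rfl (x i)
  let π : (Fin n → Γ(c.pt, W)) →ₗ[Γ(c.pt, W)] Γ((Scheme.Modules.pullback (c.π.app i₀)).obj F, W) :=
    (Pi.basisFun Γ(c.pt, W) (Fin n)).constr Γ(c.pt, W) g
  have hπsum : ∀ v, π v = ∑ i, v i • g i := fun v => by
    simp [π, Module.Basis.constr_apply_fintype]
  have hsurj : Function.Surjective π := by
    rw [← LinearMap.range_eq_top, eq_top_iff, ← span_pullSectLE (c.π.app i₀) F hU hW le_rfl hx, Submodule.span_le]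
    rintro _ ⟨_, ⟨i, rfl⟩, rfl⟩
    exact ⟨Pi.single i 1, by rw [← Pi.basisFun_apply, Module.Basis.constr_basis]⟩
  obtain ⟨σ, hσ⟩ := Module.projective_lifting_property π LinearMap.id hsurj
  let b : Fin n → Fin n → Γ(c.pt, W) := fun i l => σ (g i) l
  have hid : ∀ i, ∑ l, b i l • g l = g i := fun i => by
    rw [← hπsum]; exact LinearMap.congr_fun hσ (g i)
  let ρ : A →+* Γ(c.pt, W) := ((c.π.app i₀).appLE U W le_rfl).hom
  have hrel : ∀ r ∈ R, ∀ l, ∑ i, ρ (r i) * b i l = 0 := by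
    intro r hr l
    have h0 : ∑ i, ρ (r i) • g i = 0 := by
      refine (Finset.sum_congr rfl fun i _ =>
        (pullSectLE_smul (c.π.app i₀) F U W le_rfl (r i) (x i)).symm).trans ?_
      rw [← map_sum, ← hπ, show K.mkQ r = 0 from (Submodule.Quotient.mk_eq_zero K).2 (hR ▸ Submodule.subset_span hr),
        map_zero, map_zero]
    have := congrFun (congrArg σ h0) l
    simpa [map_sum, b] using this
  -- lift the matrix
  let P₁ : ∀ (_ : Fin n × Fin n) (k : I), (k ⟶ i₀) → Prop := fun il k φ =>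
    ∃ t : Γ(D.obj k, D.map φ ⁻¹ᵁ U),
      ((c.π.app k).appLE (D.map φ ⁻¹ᵁ U) W (preimage_le_of_stage D c φ U)).hom t = b il.1 il.2
  obtain ⟨k, φ, hk⟩ := exists_later (Finset.univ : Finset (Fin n × Fin n)) P₁
    (fun il k φ l a ⟨t, ht⟩ => ⟨((D.map a).appLE (D.map φ ⁻¹ᵁ U) _ (preimage_le_of_map D φ a U)).hom t, by
      rw [← ht]
      show (_ ≫ (c.π.app l).appLE _ _ _).hom t = _
      rw [Scheme.Hom.appLE_comp_appLE]
      congr 3
      exact c.w a⟩)
    (fun il _ => by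
      obtain ⟨k, a, t, h, ht⟩ := exists_appLE_eq D c hc hU (b il.1 il.2)
      exact ⟨k, a, t, ht⟩)
  choose t ht using fun i l => hk (i, l) (Finset.mem_univ _)
  let V := D.map φ ⁻¹ᵁ U
  have eW : W ≤ c.π.app k ⁻¹ᵁ V := preimage_le_of_stage D c φ U
  let u : Fin n → Γ((Scheme.Modules.pullback (D.map φ)).obj F, V) := fun i =>
    pullSectLE (D.map φ) F U V le_rfl (x i)
  let m : Fin n → Γ((Scheme.Modules.pullback (D.map φ)).obj F, V) := fun i => ∑ l, t i l • u l - u i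
  obtain ⟨k₁, a₁, h₁⟩ := exists_forall_tr_eq_zero D c hc F φ (Finset.univ : Finset (Fin n)) (fun _ => U) (fun _ => hU) m
    fun i _ => by
      simp only [m, u]
      rw [map_sub, map_sum, sub_eq_zero, tr_pullSectLE (e' := le_rfl)]
      refine Eq.trans (Finset.sum_congr rfl fun l _ => ?_) (hid i)
      rw [tr_smul_pullSectLE (e' := le_rfl)]
      exact congrArg (· • g l) (ht i l)
  let P₂ : ∀ (_ : (Fin n → A) × Fin n) (k' : I), (k' ⟶ k) → Prop := fun rl k' a =>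
    ((D.map a).app V).hom (∑ i, ((D.map φ).appLE U V le_rfl).hom (rl.1 i) * t i rl.2) = 0
  obtain ⟨k₂, a₂, h₂⟩ := exists_later (R ×ˢ (Finset.univ : Finset (Fin n))) P₂
    (fun rl k' a l' a' h => by
      show ((D.map (a' ≫ a)).app V).hom _ = 0
      rw [D.map_comp, Scheme.Hom.comp_app, CommRingCat.comp_apply]
      exact (congrArg ((D.map a').app (D.map a ⁻¹ᵁ V)).hom h).trans (map_zero _))
    (fun rl hrl => exists_appLE_eq_zero D c hc (hU.preimage (D.map φ)) eW (congr($(c.w φ) ⁻¹ᵁ U)).le _ (by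
      rw [map_sum]
      refine Eq.trans (Finset.sum_congr rfl fun i _ => ?_) (hrel rl.1 (Finset.mem_product.1 hrl).1 rl.2)
      rw [map_mul, ht]
      congr 1
      show ((D.map φ).appLE U V le_rfl ≫ (c.π.app k).appLE V W eW).hom _ = _
      rw [Scheme.Hom.appLE_comp_appLE]
      congr 3
      exact c.w φ))
  obtain ⟨k₃, d₁, d₂, hd⟩ := IsCofiltered.cospan a₁ a₂
  refine ⟨k₃, (d₁ ≫ a₁) ≫ φ, fun {l'} b' => ?_⟩
  let a := b' ≫ d₁ ≫ a₁
  rw [show b' ≫ (d₁ ≫ a₁) ≫ φ = a ≫ φ by simp [a]]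
  let V' := D.map (a ≫ φ) ⁻¹ᵁ U
  have hV' : IsAffineOpen V' := hU.preimage _
  have eV : V' ≤ D.map a ⁻¹ᵁ V := preimage_le_of_map D φ a U
  let g' : Fin n → Γ((Scheme.Modules.pullback (D.map (a ≫ φ))).obj F, V') := fun i =>
    pullSectLE (D.map (a ≫ φ)) F U V' le_rfl (x i)
  let t' : Fin n → Fin n → Γ(D.obj l', V') := fun i l => ((D.map a).appLE V V' eV).hom (t i l)
  have hid' : ∀ i, ∑ l, t' i l • g' l = g' i := by
    intro i
    have h := h₁ i (Finset.mem_univ i)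
    have h' := congrArg (tr (D.map (b' ≫ d₁)) (D.map (a₁ ≫ φ)) (r := D.map (a ≫ φ))
      (by rw [← D.map_comp]; simp [a]) F (D.map (a₁ ≫ φ) ⁻¹ᵁ U) V'
      (preimage_le_of_comp _ _ (by rw [← D.map_comp]; simp [a]) U)) h
    rw [map_zero, tr_tr (D.map a₁) (D.map φ) (D.map_comp a₁ φ).symm F (D.map (b' ≫ d₁))
      (r' := D.map (a ≫ φ)) (by rw [← D.map_comp]; simp [a]) (s := D.map a) (by rw [← D.map_comp]; simp [a])
      (by rw [← D.map_comp]) hU (hU.preimage _) le_rfl _ _ eV] at h'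
    simp only [m, u] at h'
    rw [map_sub, map_sum, sub_eq_zero, tr_pullSectLE (e' := le_rfl)] at h'
    refine Eq.trans (Finset.sum_congr rfl fun l _ => ?_) h'
    rw [tr_smul_pullSectLE (e' := le_rfl)]
  have hrel' : ∀ r ∈ R, ∀ l, ∑ i, ((D.map (a ≫ φ)).appLE U V' le_rfl).hom (r i) * t' i l = 0 := by
    intro r hr l
    have h := h₂ (r, l) (Finset.mem_product.2 ⟨hr, Finset.mem_univ l⟩)
    have e' : V' ≤ D.map (b' ≫ d₂) ⁻¹ᵁ (D.map a₂ ⁻¹ᵁ V) :=
      eV.trans (congr($(show D.map a = D.map (b' ≫ d₂) ≫ D.map a₂ by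
        rw [← D.map_comp, Category.assoc, ← hd]) ⁻¹ᵁ V)).le
    have h' := congrArg ((D.map (b' ≫ d₂)).appLE (D.map a₂ ⁻¹ᵁ V) V' e').hom h
    rw [map_zero] at h'
    have hcomp : (D.map a₂).app V ≫ (D.map (b' ≫ d₂)).appLE (D.map a₂ ⁻¹ᵁ V) V' e' = (D.map a).appLE V V' eV := by
      rw [Scheme.Hom.app_eq_appLE, Scheme.Hom.appLE_comp_appLE]
      congr 1
      rw [← D.map_comp, Category.assoc, ← hd]
    have h'' : ((D.map a).appLE V V' eV).hom (∑ i, ((D.map φ).appLE U V le_rfl).hom (r i) * t i l) = 0 := by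
      rw [← hcomp]; exact h'
    rw [map_sum] at h''
    refine Eq.trans (Finset.sum_congr rfl fun i _ => ?_) h''
    rw [map_mul]
    congr 1
    show _ = ((D.map φ).appLE U V le_rfl ≫ (D.map a).appLE V V' eV).hom (r i)
    rw [Scheme.Hom.appLE_comp_appLE]
    congr 3
    rw [← D.map_comp]
  letI : Algebra A Γ(D.obj l', V') := ((D.map (a ≫ φ)).appLE U V' le_rfl).hom.toAlgebra
  obtain ⟨Φ, hΦ⟩ := exists_bijective_liftBaseChange (D.map (a ≫ φ)) F hU hV' le_rfl
  let ψ : (Fin n → A) →ₗ[A] (Fin n → Γ(D.obj l', V')) := (Pi.basisFun A (Fin n)).constr A t'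
  have hψ : K ≤ LinearMap.ker ψ := by
    rw [← hR, Submodule.span_le]
    intro r hr
    show ψ r = 0
    funext l
    simp only [ψ, Module.Basis.constr_apply_fintype, Finset.sum_apply, Pi.smul_apply, Pi.basisFun_equivFun,
      LinearEquiv.refl_apply, Algebra.smul_def]
    exact hrel' r hr l
  let s : Γ((Scheme.Modules.pullback (D.map (a ≫ φ))).obj F, V') →ₗ[Γ(D.obj l', V')] (Fin n → Γ(D.obj l', V')) :=
    ((K.liftQ ψ hψ) ∘ₗ e.toLinearMap).liftBaseChange _ ∘ₗ Φ.symm.toLinearMap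
  let π' := (Pi.basisFun Γ(D.obj l', V') (Fin n)).constr Γ(D.obj l', V') g'
  refine Module.Projective.of_split s π' (LinearMap.ext_on (span_pullSectLE (D.map (a ≫ φ)) F hU hV' le_rfl hx) ?_)
  rintro _ ⟨_, ⟨i, rfl⟩, rfl⟩
  show π' ((((K.liftQ ψ hψ) ∘ₗ e.toLinearMap).liftBaseChange _) (Φ.symm (g' i))) = g' i
  rw [show Φ.symm (g' i) = 1 ⊗ₜ x i by rw [LinearEquiv.symm_apply_eq, hΦ], LinearMap.liftBaseChange_tmul, one_smul]
  show π' (K.liftQ ψ hψ (e (e.symm (K.mkQ (Pi.single i 1))))) = g' i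
  rw [LinearEquiv.apply_symm_apply]
  show π' (ψ (Pi.single i 1)) = g' i
  rw [← Pi.basisFun_apply, Module.Basis.constr_basis]
  simpa [π', Module.Basis.constr_apply_fintype] using hid' i

include hc in
/-- Finite local freeness on the limit holds at a stage. -/
theorem exists_isFinLocFree_stage [CompactSpace (D.obj i₀)] {F : (D.obj i₀).Modules} [Coh.IsQCoh F]
    (hF : CohB1.IsFP F) (h : FlatMod.IsFinLocFree ((Scheme.Modules.pullback (c.π.app i₀)).obj F)) :
    ∃ (j : I) (φ : j ⟶ i₀), FlatMod.IsFinLocFree ((Scheme.Modules.pullback (D.map φ)).obj F) := by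
  classical
  obtain ⟨t, ht⟩ := exists_finite_cover (D.obj i₀)
  let P : ∀ (_ : (D.obj i₀).affineOpens) (k : I), (k ⟶ i₀) → Prop := fun U k φ =>
    ∀ {l : I} (b : l ⟶ k), Module.Projective Γ(D.obj l, D.map (b ≫ φ) ⁻¹ᵁ U.1)
      Γ((Scheme.Modules.pullback (D.map (b ≫ φ))).obj F, D.map (b ≫ φ) ⁻¹ᵁ U.1)
  obtain ⟨k, φ, hk⟩ := exists_later t P
    (fun U k φ l b hP l' b' => by
      rw [show b' ≫ b ≫ φ = (b' ≫ b) ≫ φ from (Category.assoc _ _ _).symm]; exact hP (b' ≫ b))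
    (fun U _ => by
      haveI := LocFree.finitePresentation_sections_of_isFP (M := F) inferInstance hF U.2
      haveI : Module.Projective Γ(c.pt, c.π.app i₀ ⁻¹ᵁ U.1)
          Γ((Scheme.Modules.pullback (c.π.app i₀)).obj F, c.π.app i₀ ⁻¹ᵁ U.1) :=
        LocFree.projective_sections (X := c.pt) h (isAffineOpen_preimage_π D c hc U.2)
      exact exists_projective_stage D c hc U.2)
  refine ⟨k, 𝟙 k ≫ φ, LocFree.isFinLocFree_of_affine_projective (isQCoh_pullback _ inferInstance) fun x => ?_⟩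
  obtain ⟨U, hU, hx⟩ := ht (D.map (𝟙 k ≫ φ) x)
  haveI := hk U hU (𝟙 k)
  exact ⟨D.map (𝟙 k ≫ φ) ⁻¹ᵁ U.1, U.2.preimage _, hx,
    FittLib.finitePresentation_pullback _ inferInstance hF U.2 (U.2.preimage _) le_rfl, inferInstance⟩

/-- Pullback preserves being free of a given rank near a point. -/
lemma exists_free_pullback {T X : Scheme.{u}} (f : T ⟶ X) {M : X.Modules} {W : X.Opens} {n : ℕ}
    (e : M.restrict W.ι ≅ FlatMod.freeMod (↑W) n) :
    Nonempty (((Scheme.Modules.pullback f).obj M).restrict (f ⁻¹ᵁ W).ι ≅ FlatMod.freeMod (↑(f ⁻¹ᵁ W)) n) :=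
  ⟨(DerPerf.pullRestrictIso f W).app M ≪≫ (Scheme.Modules.pullback (f ∣_ W)).mapIso e ≪≫
    DerPerf.pullFreeIso (f ∣_ W) n⟩

/-- The rank of a free module near a point is well defined. -/
lemma rank_unique {X : Scheme.{u}} {M : X.Modules} {W W' : X.Opens} {m n : ℕ}
    (e : M.restrict W.ι ≅ FlatMod.freeMod (↑W) m) (e' : M.restrict W'.ι ≅ FlatMod.freeMod (↑W') n)
    {x : X} (hx : x ∈ W) (hx' : x ∈ W') : m = n := by
  obtain ⟨B, hB, hxB, hBW⟩ := exists_isAffineOpen_mem_and_subset (show x ∈ W ⊓ W' from ⟨hx, hx'⟩)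
  obtain ⟨b⟩ := LocFree.exists_basis_sections_of_le e hB (fun z hz => (hBW hz).1)
  obtain ⟨b'⟩ := LocFree.exists_basis_sections_of_le e' hB (fun z hz => (hBW hz).2)
  haveI : Nonempty (B : Scheme.{u}) := ⟨⟨x, hxB⟩⟩
  haveI : Nontrivial Γ(X, B) := inferInstance
  have := Fintype.card_congr (b.indexEquiv b')
  simpa using this

include hc in
/-- Finite local freeness of given rank on the limit holds at a stage. -/
theorem exists_isFinLocFreeOfRank_stage [CompactSpace (D.obj i₀)] {F : (D.obj i₀).Modules} [Coh.IsQCoh F]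
    (hF : CohB1.IsFP F) {n : ℕ}
    (h : FlatMod.IsFinLocFreeOfRank n ((Scheme.Modules.pullback (c.π.app i₀)).obj F)) :
    ∃ (j : I) (φ : j ⟶ i₀), FlatMod.IsFinLocFreeOfRank n ((Scheme.Modules.pullback (D.map φ)).obj F) := by
  obtain ⟨k, φ, hk⟩ := exists_isFinLocFree_stage D c hc hF
    fun x => let ⟨U, hx, e⟩ := h x; ⟨U, n, hx, e⟩
  let M := (Scheme.Modules.pullback (D.map φ)).obj F
  let O : (D.obj k).Opens := ⨆ (W : {W : (D.obj k).Opens // Nonempty (M.restrict W.ι ≅ FlatMod.freeMod (↑W) n)}), W.1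
  have hle : c.π.app k ⁻¹ᵁ (⊤ : (D.obj k).Opens) ≤ c.π.app k ⁻¹ᵁ O := fun x _ => by
    obtain ⟨W, m, hxW, ⟨e⟩⟩ := hk (c.π.app k x)
    obtain ⟨e'⟩ := exists_free_pullback (c.π.app k) e
    obtain ⟨W', hxW', ⟨e''⟩⟩ := h x
    let θ : (Scheme.Modules.pullback (c.π.app k)).obj M ≅ (Scheme.Modules.pullback (c.π.app i₀)).obj F :=
      (trIso (c.π.app k) (D.map φ) (c.w φ)).app F
    obtain rfl : m = n := rank_unique ((Scheme.Modules.restrictFunctor _).mapIso θ.symm ≪≫ e') e'' hxW hxW'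
    exact Opens.mem_iSup.2 ⟨⟨W, ⟨e⟩⟩, hxW⟩
  haveI := compactSpace_stage D φ
  obtain ⟨l, a, ha⟩ := exists_map_preimage_le_map_preimage D c hc
    (isCompact_univ : IsCompact ((⊤ : (D.obj k).Opens) : Set (D.obj k))) hle
  refine ⟨l, a ≫ φ, fun x => ?_⟩
  obtain ⟨⟨W, ⟨e⟩⟩, hxW⟩ := Opens.mem_iSup.1 (ha (show x ∈ D.map a ⁻¹ᵁ ⊤ from trivial))
  obtain ⟨e'⟩ := exists_free_pullback (D.map a) e
  exact ⟨_, hxW, ⟨(Scheme.Modules.restrictFunctor _).mapIso
    ((trIso (D.map a) (D.map φ) (D.map_comp a φ).symm).app F).symm ≪≫ e'⟩⟩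

end Groth.Agent.ModDesc
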