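import Mathlib
import Groth.Agent.ModDesc.Iso

/-!
# Right exact functors and cokernels; right exact sequences along limits
-/

universe u v w v' w'

open CategoryTheory CategoryTheory.Limits AlgebraicGeometry

set_option backward.isDefEq.respectTransparency false
set_option linter.style.haveILetI false
set_option linter.unusedSectionVars false

noncomputable section

namespace Groth.Agent.ModDesc

section Abelian

variable {C : Type w} [Category.{v} C] [Abelian C] {C' : Type w'} [Category.{v'} C'] [Abelian C']

/-- Right exactness of a short complex is the comparison with the cokernel being an isomorphism. -/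
lemma exactEpi_iff_isIso_desc {A B E : C} (f : A ⟶ B) (g : B ⟶ E) (w : f ≫ g = 0) :
    ((ShortComplex.mk f g w).Exact ∧ Epi g) ↔ IsIso (cokernel.desc f g w) := by
  rw [(ShortComplex.mk f g w).exact_iff_mono_cokernel_desc]
  constructor
  · rintro ⟨hm, he⟩
    haveI : Mono (cokernel.desc f g w) := hm
    haveI : Epi (cokernel.desc f g w) := epi_of_epi_fac (cokernel.π_desc f g w)
    exact isIso_of_mono_of_epi _
  · intro h
    exact ⟨(inferInstance : Mono (cokernel.desc f g w)), by
      rw [← cokernel.π_desc f g w]; exact epi_comp _ _⟩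

/-- A functor preserving the cokernel detects right exactness through the comparison morphism. -/
lemma exactEpi_map_iff (F : C ⥤ C') [F.PreservesZeroMorphisms] {A B E : C} (f : A ⟶ B) (g : B ⟶ E)
    [PreservesColimit (parallelPair f 0) F] (w : f ≫ g = 0) :
    (∃ w' : F.map f ≫ F.map g = 0, (ShortComplex.mk _ _ w').Exact ∧ Epi (F.map g)) ↔
      IsIso (F.map (cokernel.desc f g w)) := by
  have w' : F.map f ≫ F.map g = 0 := by rw [← F.map_comp, w, F.map_zero]
  have h := cokernelComparison_map_desc f F (h := g) w
  constructor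
  · rintro ⟨_, h1⟩
    haveI := (exactEpi_iff_isIso_desc (F.map f) (F.map g) w').1 h1
    exact IsIso.of_isIso_fac_left h
  · intro hi
    haveI := hi
    refine ⟨w', (exactEpi_iff_isIso_desc (F.map f) (F.map g) w').2 ?_⟩
    rw [← h]
    infer_instance

/-- Right exactness is invariant under natural isomorphisms. -/
lemma exactEpi_congr {F F' : C ⥤ C'} (e : F ≅ F') {A B E : C} (f : A ⟶ B) (g : B ⟶ E) :
    (∃ w : F.map f ≫ F.map g = 0, (ShortComplex.mk _ _ w).Exact ∧ Epi (F.map g)) →
      ∃ w : F'.map f ≫ F'.map g = 0, (ShortComplex.mk _ _ w).Exact ∧ Epi (F'.map g) := by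
  rintro ⟨w, h1, h2⟩
  have w' : F'.map f ≫ F'.map g = 0 := by
    rw [← NatIso.naturality_1 e f, ← NatIso.naturality_1 e g]
    simp only [Category.assoc, Iso.hom_inv_id_app_assoc, reassoc_of% w, zero_comp, comp_zero]
  refine ⟨w', (ShortComplex.exact_iff_of_iso (ShortComplex.isoMk (e.app A) (e.app B) (e.app E)
    (e.hom.naturality f).symm (e.hom.naturality g).symm :
      ShortComplex.mk _ _ w ≅ ShortComplex.mk _ _ w')).1 h1, ?_⟩
  haveI := h2
  rw [← NatIso.naturality_1 e g]
  infer_instance

end Abelian

variable {T X Y : Scheme.{u}} (q : T ⟶ X) (g : X ⟶ Y) {r : T ⟶ Y} (w : q ≫ g = r)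

include w in
lemma epi_map_iff_trans {F G : Y.Modules} (f : F ⟶ G) :
    Epi ((Scheme.Modules.pullback r).map f) ↔
      Epi ((Scheme.Modules.pullback q).map ((Scheme.Modules.pullback g).map f)) :=
  ((MorphismProperty.epimorphisms T.Modules).arrow_mk_iso_iff
    (Arrow.isoMk ((trIso q g w).app F) ((trIso q g w).app G) ((trIso q g w).hom.naturality f).symm)).symm

include w in
lemma exactEpi_iff_trans {F G H : Y.Modules} (f : F ⟶ G) (h : G ⟶ H) :
    (∃ z : (Scheme.Modules.pullback r).map f ≫ (Scheme.Modules.pullback r).map h = 0,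
      (ShortComplex.mk _ _ z).Exact ∧ Epi ((Scheme.Modules.pullback r).map h)) ↔
    ∃ z : (Scheme.Modules.pullback q).map ((Scheme.Modules.pullback g).map f) ≫
        (Scheme.Modules.pullback q).map ((Scheme.Modules.pullback g).map h) = 0,
      (ShortComplex.mk _ _ z).Exact ∧ Epi ((Scheme.Modules.pullback q).map ((Scheme.Modules.pullback g).map h)) :=
  ⟨exactEpi_congr (trIso q g w).symm f h, exactEpi_congr (trIso q g w) f h⟩

end Groth.Agent.ModDesc
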