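import Mathlib
import Groth.Agent.ModDesc.Exact
import Groth.Agent.QC.IdealMod

/-!
# Kernels of surjections onto finitely presented modules
-/

universe u

open CategoryTheory CategoryTheory.Limits AlgebraicGeometry

set_option backward.isDefEq.respectTransparency false
set_option linter.style.haveILetI false

noncomputable section

namespace Groth.Agent.ModDesc

open Groth.Agent.QC

variable {X : Scheme.{u}}

/-- The kernel of an epimorphism from a finite type onto a finitely presented module has finite sections. -/
lemma finite_sections_kernel {F G : X.Modules} [Coh.IsQCoh F] [Coh.IsQCoh G] (p : F ⟶ G) [Epi p]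
    (hF : CohB1.IsFT F) (hG : CohB1.IsFP G) {U : X.Opens} (hU : IsAffineOpen U) :
    Module.Finite Γ(X, U) Γ(kernel p, U) := by
  haveI := QC.finite_sections hU (M := F) hF
  haveI := LocFree.finitePresentation_sections_of_isFP (M := G) inferInstance hG hU
  let L : Γ(F, U) →ₗ[Γ(X, U)] Γ(G, U) :=
    { toFun := p.app U, map_add' := map_add _, map_smul' := Scheme.Modules.Hom.app_smul _ }
  let i : Γ(kernel p, U) →ₗ[Γ(X, U)] Γ(F, U) :=
    { toFun := (kernel.ι p).app U, map_add' := map_add _, map_smul' := Scheme.Modules.Hom.app_smul _ }
  have hinj : Function.Injective i := ZCl.injective_of_mono (kernel.ι p) U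
  have hfg : (LinearMap.ker L).FG := Module.FinitePresentation.fg_ker L (app_surjective_of_epi hU inferInstance inferInstance p)
  have hrange : LinearMap.range i = LinearMap.ker L :=
    SetLike.ext fun t => mem_range_kernel_app p U t
  haveI : Module.Finite Γ(X, U) (LinearMap.range i) := Module.Finite.iff_fg.2 (hrange ▸ hfg)
  exact Module.Finite.equiv (LinearEquiv.ofInjective i hinj).symm

end Groth.Agent.ModDesc
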