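import Mathlib
import Groth.Agent.ModDesc.Func

/-!
# Coherence of the transport isomorphisms
-/

universe u

open CategoryTheory CategoryTheory.Limits AlgebraicGeometry TopologicalSpace Opposite

set_option backward.isDefEq.respectTransparency false
set_option linter.style.haveILetI false

noncomputable section

namespace Groth.Agent.ModDesc

open Groth.Agent.QC

variable {T' T X Y : Scheme.{u}} (q : T ⟶ X) (g : X ⟶ Y) {r : T ⟶ Y} (w : q ≫ g = r) (H : Y.Modules)

lemma trIso_inv_pullSectLE {U : Y.Opens} {V : X.Opens} (eV : V ≤ g ⁻¹ᵁ U) {W : T.Opens} (e : W ≤ q ⁻¹ᵁ V)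
    (e' : W ≤ r ⁻¹ᵁ U) (s : Γ(H, U)) :
    ((trIso q g w).inv.app H).app W (pullSectLE r H U W e' s) =
      pullSectLE q ((Scheme.Modules.pullback g).obj H) V W e (pullSectLE g H U V eV s) := by
  rw [← tr_pullSectLE q g w H eV e e', tr_apply]
  exact congr(($((trIso q g w).hom_inv_id_app H)).app W (pullSectLE q _ V W e (pullSectLE g H U V eV s)))

variable (q' : T' ⟶ T) {r' : T' ⟶ Y} (w' : q' ≫ r = r') {s : T' ⟶ X} (hs : q' ≫ q = s) (w'' : s ≫ g = r')

/-- Associativity of the transport isomorphisms. -/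
lemma trIso_assoc :
    (trIso q' r w').inv.app H ≫ (Scheme.Modules.pullback q').map ((trIso q g w).inv.app H) =
      (trIso s g w'').inv.app H ≫ (trIso q' q hs).inv.app ((Scheme.Modules.pullback g).obj H) := by
  refine hom_ext_pullback r' _ _ fun y O hy => ⟨O, le_rfl, hy, fun t => ?_⟩
  have e₁ := preimage_le_of_comp q g w O
  have e₂ := preimage_le_of_comp q' r w' O
  have e₃ := preimage_le_of_comp s g w'' O
  have e₄ : s ⁻¹ᵁ (g ⁻¹ᵁ O) ≤ q' ⁻¹ᵁ (q ⁻¹ᵁ (g ⁻¹ᵁ O)) := preimage_le_of_comp q' q hs _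
  simp only [Scheme.Modules.Hom.comp_app, ConcreteCategory.comp_apply]
  let F1 := ((Scheme.Modules.pullback q').map ((trIso q g w).inv.app H)).app (r' ⁻¹ᵁ O)
  let F2 := ((trIso q' q hs).inv.app ((Scheme.Modules.pullback g).obj H)).app (r' ⁻¹ᵁ O)
  refine (congrArg F1 (trIso_inv_pullSectLE q' r w' H le_rfl e₂ le_rfl t)).trans ?_
  refine (app_pullSectLE q' ((trIso q g w).inv.app H) (r ⁻¹ᵁ O) (r' ⁻¹ᵁ O) e₂ _).trans ?_
  refine Eq.trans ?_ (congrArg F2 (trIso_inv_pullSectLE s g w'' H le_rfl e₃ le_rfl t)).symm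
  rw [trIso_inv_pullSectLE q g w H le_rfl e₁ le_rfl t]
  exact (trIso_inv_pullSectLE q' q hs ((Scheme.Modules.pullback g).obj H) e₁ e₂ e₃ _).symm

/-- Transport of a morphism out of a composite pullback. -/
lemma transport_formula {N : X.Modules}
    (h : (Scheme.Modules.pullback q).obj ((Scheme.Modules.pullback g).obj H) ⟶ (Scheme.Modules.pullback q).obj N) :
    ((trIso q' r w').app H).inv ≫ (Scheme.Modules.pullback q').map (((trIso q g w).app H).inv ≫ h) ≫
        ((trIso q' q hs).app N).hom =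
      ((trIso s g w'').app H).inv ≫ bc q' q hs N h := by
  simp only [Iso.app_inv, Iso.app_hom, Functor.map_comp, Category.assoc]
  rw [← Category.assoc, trIso_assoc q g w H q' w' hs w'', Category.assoc]
  rfl

end Groth.Agent.ModDesc
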